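import Groth.Prelude.Def_RelCanon
import Groth.Agent.Ega4B.SkLocal
import Groth.Agent.Flat2D.FiberStalk
import Groth.Agent.Fdesc.FlatBC
import Groth.Agent.Ega3B.FlatRestrict

/-!
# Serre's conditions on schemes and relative to a morphism: the stalk form

`K970.RelSk1.relSkAt_iff`: `RelCanon.RelSkAt f k F x` in terms of `O_x / m O_x` and `F_x / m F_x`.
-/

set_option autoImplicit false
set_option linter.style.haveILetI false
universe u

open AlgebraicGeometry CategoryTheory Limits IsLocalRing TopologicalSpace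

namespace K970.RelSk1

open Groth.Agent Groth.Agent.Flat2D.FiberStalk Groth.Agent.Fdesc.PullbackStalk

/-! ### Invariance under isomorphisms -/

section Iso

variable {X : Scheme.{u}} {F G : X.Modules}

theorem hasSk_iff_of_semilinearEquiv (k : ℕ) {R A M N : Type*} [CommRing R] [CommRing A]
    [AddCommGroup M] [Module R M] [AddCommGroup N] [Module A N] (σ : R ≃+* A)
    (e : M ≃+ N) (he : ∀ (r : R) (m : M), e (r • m) = σ r • e m) :
    LocCoh.HasSk k R M ↔ LocCoh.HasSk k A N := by
  refine ⟨Ega4B.SkLocal.hasSk_of_semilinearEquiv k (σ : R →+* A) σ.bijective e he,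
    Ega4B.SkLocal.hasSk_of_semilinearEquiv k (σ.symm : A →+* R) σ.symm.bijective e.symm
      fun r m => ?_⟩
  apply e.injective
  rw [he]
  simp

theorem skAt_of_equiv (k : ℕ) (x : X)
    (e : F.presheaf.stalk x ≃ₗ[X.presheaf.stalk x] G.presheaf.stalk x)
    (h : RelCanon.SkAt k F x) : RelCanon.SkAt k G x :=
  Ega4B.DepthBasic.hasSk_of_equiv k e h

theorem skAt_of_iso (k : ℕ) (e : F ≅ G) (x : X) (h : RelCanon.SkAt k F x) :
    RelCanon.SkAt k G x :=
  skAt_of_equiv k x (Fdesc.Skyscraper.stalkIso e x) h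

theorem skAt_iff_of_iso (k : ℕ) (e : F ≅ G) (x : X) :
    RelCanon.SkAt k F x ↔ RelCanon.SkAt k G x :=
  ⟨skAt_of_iso k e x, skAt_of_iso k e.symm x⟩

end Iso

section RelIso

variable {X Y : Scheme.{u}} (f : X ⟶ Y) {F G : X.Modules}

theorem isFlatOverAt_of_equiv (x : X)
    (e : F.presheaf.stalk x ≃ₗ[X.presheaf.stalk x] G.presheaf.stalk x)
    (h : FlatMod.IsFlatOverAt f F x) : FlatMod.IsFlatOverAt f G x := by
  letI := FlatMod.moduleStalkOver f F x
  letI := FlatMod.moduleStalkOver f G x
  exact Ega3B.FlatRestrict.flat_of_semilinear (RingEquiv.refl _) e.toAddEquiv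
    (fun r m => e.map_smul ((f.stalkMap x).hom r) m) h

theorem isFlatOverAt_of_iso (e : F ≅ G) (x : X)
    (h : FlatMod.IsFlatOverAt f F x) : FlatMod.IsFlatOverAt f G x :=
  isFlatOverAt_of_equiv f x (Fdesc.Skyscraper.stalkIso e x) h

theorem isFlatOverAt_iff_of_iso (e : F ≅ G) (x : X) :
    FlatMod.IsFlatOverAt f F x ↔ FlatMod.IsFlatOverAt f G x :=
  ⟨isFlatOverAt_of_iso f e x, isFlatOverAt_of_iso f e.symm x⟩

theorem relSkAt_of_iso (k : ℕ) (e : F ≅ G) (x : X)
    (h : RelCanon.RelSkAt f k F x) : RelCanon.RelSkAt f k G x :=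
  ⟨isFlatOverAt_of_iso f e x h.1,
    skAt_of_iso k ((Scheme.Modules.pullback (f.fiberι (f x))).mapIso e) _ h.2⟩

theorem relSkAt_iff_of_iso (k : ℕ) (e : F ≅ G) (x : X) :
    RelCanon.RelSkAt f k F x ↔ RelCanon.RelSkAt f k G x :=
  ⟨relSkAt_of_iso f k e x, relSkAt_of_iso f k e.symm x⟩

theorem relSk_iff_of_iso (k : ℕ) (e : F ≅ G) :
    RelCanon.RelSk f k F ↔ RelCanon.RelSk f k G :=
  forall_congr' fun x => relSkAt_iff_of_iso f k e x

end RelIso

/-! ### The stalk of a pullback along a morphism with surjective stalk map -/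

section Surj

/-- Along a surjective ring map `O → O'` with kernel `I`, a base change of `M` is `M / I M`. -/
theorem exists_quot_equiv {O O' M N : Type*} [CommRing O] [CommRing O'] [Algebra O O']
    [AddCommGroup M] [Module O M] [AddCommGroup N] [Module O N] [Module O' N]
    [IsScalarTower O O' N] (g : M →ₗ[O] N) (hg : IsBaseChange O' g)
    (hs : Function.Surjective (algebraMap O O')) (I : Ideal O)
    (hI : RingHom.ker (algebraMap O O') = I) :
    ∃ e : (M ⧸ (I • (⊤ : Submodule O M))) ≃+ N,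
      ∀ (r : O) (m : M ⧸ (I • (⊤ : Submodule O M))), e (r • m) = algebraMap O O' r • e m := by
  subst hI
  have hle : RingHom.ker (algebraMap O O') • (⊤ : Submodule O M) ≤ LinearMap.ker g := by
    rw [Submodule.smul_le]
    intro r hr m _
    rw [LinearMap.mem_ker, map_smul, ← algebraMap_smul O' r (g m), (RingHom.mem_ker).mp hr,
      zero_smul]
  have hsurj : Function.Surjective g := by
    intro n
    induction n using hg.inductionOn with
    | zero => exact ⟨0, map_zero _⟩
    | tmul m => exact ⟨m, rfl⟩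
    | smul s n hn =>
      obtain ⟨m, rfl⟩ := hn
      obtain ⟨r, rfl⟩ := hs s
      exact ⟨r • m, by rw [map_smul, algebraMap_smul]⟩
    | add n₁ n₂ h₁ h₂ =>
      obtain ⟨m₁, rfl⟩ := h₁
      obtain ⟨m₂, rfl⟩ := h₂
      exact ⟨m₁ + m₂, map_add _ _ _⟩
  have hge : LinearMap.ker g ≤ RingHom.ker (algebraMap O O') • (⊤ : Submodule O M) := by
    intro m hm
    let K := RingHom.ker (algebraMap O O')
    let Q := M ⧸ (K • (⊤ : Submodule O M))
    let σ : (O ⧸ K) ≃+* O' := RingHom.quotientKerEquivOfSurjective hs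
    letI : Module O' Q := Module.compHom Q σ.symm.toRingHom
    haveI : IsScalarTower O O' Q := IsScalarTower.of_algebraMap_smul fun r q => by
      obtain ⟨q, rfl⟩ := Submodule.Quotient.mk_surjective _ q
      have hσ : σ.symm (algebraMap O O' r) = Ideal.Quotient.mk K r := by
        rw [RingEquiv.symm_apply_eq]
        rfl
      change σ.symm (algebraMap O O' r) • (Submodule.Quotient.mk q : Q) = r • Submodule.Quotient.mk q
      rw [hσ]
      rfl
    have h1 : hg.lift ((K • (⊤ : Submodule O M)).mkQ) (g m) =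
      (K • (⊤ : Submodule O M)).mkQ m := hg.lift_eq _ m
    rw [(LinearMap.mem_ker).mp hm, map_zero] at h1
    exact (Submodule.Quotient.mk_eq_zero _).mp h1.symm
  let e : (M ⧸ (RingHom.ker (algebraMap O O') • (⊤ : Submodule O M))) ≃ₗ[O] N :=
    (Submodule.quotEquivOfEq _ _ (le_antisymm hle hge)).trans
      (g.quotKerEquivOfSurjective hsurj)
  refine ⟨e.toAddEquiv, fun r m => ?_⟩
  change e (r • m) = algebraMap O O' r • e m
  rw [map_smul, algebraMap_smul]

variable {X Z : Scheme.{u}} (i : Z ⟶ X)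

/-- The stalk of a pullback along a morphism with surjective stalk map. -/
theorem exists_stalk_equiv_of_surjective (F : X.Modules) (z : Z)
    (hs : Function.Surjective (i.stalkMap z).hom) (I : Ideal (X.presheaf.stalk (i z)))
    (hI : RingHom.ker (i.stalkMap z).hom = I) :
    ∃ (σ : (X.presheaf.stalk (i z) ⧸ I) ≃+* Z.presheaf.stalk z)
      (e : (F.presheaf.stalk (i z) ⧸ (I • (⊤ : Submodule (X.presheaf.stalk (i z)) (F.presheaf.stalk (i z)))))
        ≃+ ((Scheme.Modules.pullback i).obj F).presheaf.stalk z),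
      ∀ r m, e (r • m) = σ r • e m := by
  letI := stalkAlg i z
  letI := FlatMod.moduleStalkOver i ((Scheme.Modules.pullback i).obj F) z
  haveI := isScalarTower i ((Scheme.Modules.pullback i).obj F) z
  obtain ⟨e, he⟩ := exists_quot_equiv (can i F z) (isBaseChange_can i F z) hs I hI
  subst hI
  refine ⟨RingHom.quotientKerEquivOfSurjective hs, e, fun r m => ?_⟩
  obtain ⟨r, rfl⟩ := Ideal.Quotient.mk_surjective r
  obtain ⟨m, rfl⟩ := Submodule.Quotient.mk_surjective _ m
  exact he r (Submodule.Quotient.mk m)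

theorem skAt_pullback_iff_of_surjective (k : ℕ) (F : X.Modules) (z : Z)
    (hs : Function.Surjective (i.stalkMap z).hom) (I : Ideal (X.presheaf.stalk (i z)))
    (hI : RingHom.ker (i.stalkMap z).hom = I) :
    RelCanon.SkAt k ((Scheme.Modules.pullback i).obj F) z ↔
      LocCoh.HasSk k (X.presheaf.stalk (i z) ⧸ I)
        (F.presheaf.stalk (i z) ⧸ (I • (⊤ : Submodule (X.presheaf.stalk (i z)) (F.presheaf.stalk (i z))))) := by
  obtain ⟨σ, e, he⟩ := exists_stalk_equiv_of_surjective i F z hs I hI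
  exact (hasSk_iff_of_semilinearEquiv k σ e he).symm

end Surj

section Fibre

variable {X Y : Scheme.{u}} (f : X ⟶ Y)

/-- The stalk `F_x / m_{f x} F_x` of the restriction of `F` to the fibre through `x`. -/
abbrev FibStalk (F : X.Modules) (x : X) : Type u :=
  F.presheaf.stalk x ⧸
    (fibreIdeal f x • (⊤ : Submodule (X.presheaf.stalk x) (F.presheaf.stalk x)))

/-- The local ring `O_x / m_{f x} O_x` of the fibre through `x`. -/
abbrev FibRingStalk (x : X) : Type u := X.presheaf.stalk x ⧸ fibreIdeal f x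

/-- `(S_k)` for the restriction to a fibre, in terms of stalks. -/
theorem skAt_fiber_iff (k : ℕ) (F : X.Modules) (y : Y) (z : f.fiber y) :
    RelCanon.SkAt k ((Scheme.Modules.pullback (f.fiberι y)).obj F) z ↔
      LocCoh.HasSk k (FibRingStalk f (f.fiberι y z)) (FibStalk f F (f.fiberι y z)) :=
  skAt_pullback_iff_of_surjective (f.fiberι y) k F z (stalkMap_fiberι_surjective f y z) _
    (ker_stalkMap_fiberι f y z)

theorem skAt_asFiber_iff (k : ℕ) (F : X.Modules) (x : X) :
    RelCanon.SkAt k ((Scheme.Modules.pullback (f.fiberι (f x))).obj F) (f.asFiber x) ↔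
      LocCoh.HasSk k (FibRingStalk f x) (FibStalk f F x) := by
  rw [skAt_fiber_iff]
  have : ∀ x' : X, x' = x → (LocCoh.HasSk k (FibRingStalk f x') (FibStalk f F x') ↔
      LocCoh.HasSk k (FibRingStalk f x) (FibStalk f F x)) := by
    rintro _ rfl
    exact Iff.rfl
  exact this _ (f.fiberι_asFiber x)

/-- **Stalk form of relative `(S_k)`.** -/
theorem relSkAt_iff (k : ℕ) (F : X.Modules) (x : X) :
    RelCanon.RelSkAt f k F x ↔ FlatMod.IsFlatOverAt f F x ∧
      LocCoh.HasSk k (FibRingStalk f x) (FibStalk f F x) :=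
  and_congr_right fun _ => skAt_asFiber_iff f k F x

/-- Relative `(S_k)` only depends on the stalk. -/
theorem relSkAt_of_equiv (k : ℕ) {F G : X.Modules} (x : X)
    (e : F.presheaf.stalk x ≃ₗ[X.presheaf.stalk x] G.presheaf.stalk x)
    (h : RelCanon.RelSkAt f k F x) : RelCanon.RelSkAt f k G x := by
  rw [relSkAt_iff] at h ⊢
  refine ⟨isFlatOverAt_of_equiv f x e h.1, ?_⟩
  have hmap : Submodule.map (e : F.presheaf.stalk x →ₗ[X.presheaf.stalk x] G.presheaf.stalk x)
      (fibreIdeal f x • ⊤) = fibreIdeal f x • ⊤ := by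
    rw [Submodule.map_smul'', Submodule.map_top, LinearEquiv.range]
  exact (hasSk_iff_of_semilinearEquiv k (RingEquiv.refl _)
    (Submodule.Quotient.equiv _ _ e hmap).toAddEquiv (by
      intro r m
      obtain ⟨r, rfl⟩ := Ideal.Quotient.mk_surjective r
      exact (Submodule.Quotient.equiv _ _ e hmap).map_smul r m)).mp h.2

end Fibre

end K970.RelSk1
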