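import Groth.Prelude.Def_RelCanon
import Groth.Agent.Fdesc.LocGenPullback
import Groth.Agent.Fdesc.LocGenTensor
import Groth.Agent.Pic13.H969.StalkFree
import Groth.Agent.SDiv.K476.HomSh5
import Groth.Agent.SDiv.K476.HomSh6
import Groth.Agent.Ega3B.TensRestrict
import Groth.Agent.Fdesc.StalkExt

/-!
# Invertibility of a module at a point

`RelCanon.InvertibleAt F x`: local generators, restriction to opens, pullback, tensor products,
duals, double duals, the stalk criterion.
-/

set_option autoImplicit false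
set_option linter.style.haveILetI false
universe u

open AlgebraicGeometry CategoryTheory Limits IsLocalRing TopologicalSpace RefHull

namespace K970.InvAt

open Groth.Agent Groth.Agent.Fdesc.LocGen

variable {X Y : Scheme.{u}} {F G : X.Modules}

theorem invertibleAt_of_iso (e : F ≅ G) (x : X) (h : RelCanon.InvertibleAt F x) :
    RelCanon.InvertibleAt G x := by
  obtain ⟨U, hx, ⟨f⟩⟩ := h
  exact ⟨U, hx, ⟨(Scheme.Modules.restrictFunctor U.ι).mapIso e.symm ≪≫ f⟩⟩

theorem invertibleAt_iff_of_iso (e : F ≅ G) (x : X) :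
    RelCanon.InvertibleAt F x ↔ RelCanon.InvertibleAt G x :=
  ⟨invertibleAt_of_iso e x, invertibleAt_of_iso e.symm x⟩

/-- Invertibility at a point in terms of local generators. -/
theorem invertibleAt_iff_isGen (F : X.Modules) (x : X) :
    RelCanon.InvertibleAt F x ↔ ∃ (U : X.Opens) (e : Γ(F, U)), x ∈ U ∧ IsGen e := by
  constructor
  · rintro ⟨U, hx, ⟨e⟩⟩
    have h1 : IsGen (sec e.inv ⊤) := (isIso_iff_isGen e.inv).mp inferInstance
    obtain ⟨m, hm⟩ := (toRestrict (M := F) U.ι (U := ⊤)).surjective (sec e.inv ⊤)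
    rw [← hm, isGen_toRestrict_iff] at h1
    exact ⟨_, m, by simpa using hx, h1⟩
  · rintro ⟨U, e, hx, he⟩
    refine ⟨U, hx, ⟨?_⟩⟩
    have hU : U.ι ''ᵁ ⊤ ≤ U := by simp
    have h1 : IsGen (toRestrict (M := F) U.ι (U := ⊤) (res F hU e)) :=
      (isGen_toRestrict_iff _ _).mpr (he.res hU)
    have : IsIso (homOf (toRestrict (M := F) U.ι (U := ⊤) (res F hU e))) := by
      rw [isIso_iff_isGen, sec_homOf]
      simpa using h1
    exact (asIso (homOf (toRestrict (M := F) U.ι (U := ⊤) (res F hU e)))).symm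

/-- Invertibility at a point is invertibility on a neighbourhood. -/
theorem invertibleAt_iff_nhd (F : X.Modules) (x : X) :
    RelCanon.InvertibleAt F x ↔ ∃ U : X.Opens, x ∈ U ∧ ∀ y ∈ U, RelCanon.InvertibleAt F y := by
  constructor
  · rintro ⟨U, hx, h⟩
    exact ⟨U, hx, fun y hy => ⟨U, hy, h⟩⟩
  · rintro ⟨U, hx, h⟩
    exact h x hx

/-- The open locus where a module is invertible. -/
def invLocus (F : X.Modules) : X.Opens where
  carrier := {x | RelCanon.InvertibleAt F x}
  is_open' := by
    rw [isOpen_iff_forall_mem_open]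
    intro x hx
    obtain ⟨U, hxU, hU⟩ := (invertibleAt_iff_nhd F x).mp hx
    exact ⟨U, fun y hy => hU y hy, U.isOpen, hxU⟩

theorem mem_invLocus {x : X} : x ∈ invLocus F ↔ RelCanon.InvertibleAt F x := Iff.rfl

/-- Restriction along an open immersion. -/
theorem invertibleAt_restrict_iff (j : Y ⟶ X) [IsOpenImmersion j] (F : X.Modules) (y : Y) :
    RelCanon.InvertibleAt (F.restrict j) y ↔ RelCanon.InvertibleAt F (j y) := by
  rw [invertibleAt_iff_isGen, invertibleAt_iff_isGen]
  constructor
  · rintro ⟨U, e, hy, he⟩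
    obtain ⟨m, rfl⟩ := (toRestrict (M := F) j (U := U)).surjective e
    exact ⟨j ''ᵁ U, m, ⟨y, hy, rfl⟩, (isGen_toRestrict_iff j m).mp he⟩
  · rintro ⟨U, e, hy, he⟩
    have hle : j ''ᵁ (j ⁻¹ᵁ U) ≤ U := by
      rintro _ ⟨z, hz, rfl⟩
      exact hz
    exact ⟨j ⁻¹ᵁ U, toRestrict (M := F) j (res F hle e), hy,
      (isGen_toRestrict_iff j _).mpr (he.res hle)⟩

theorem isInvertible_restrict_iff (j : Y ⟶ X) [IsOpenImmersion j] (F : X.Modules) :
    PicF.IsInvertible (F.restrict j) ↔ ∀ y : Y, RelCanon.InvertibleAt F (j y) :=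
  forall_congr' fun y => invertibleAt_restrict_iff j F y

theorem isInvertible_restrict_invLocus (F : X.Modules) :
    PicF.IsInvertible (F.restrict (invLocus F).ι) :=
  (isInvertible_restrict_iff _ F).mpr fun y => y.2

theorem invertibleAt_iff_exists_restrict (F : X.Modules) (x : X) :
    RelCanon.InvertibleAt F x ↔ ∃ U : X.Opens, x ∈ U ∧ PicF.IsInvertible (F.restrict U.ι) := by
  constructor
  · intro h
    exact ⟨invLocus F, h, isInvertible_restrict_invLocus F⟩
  · rintro ⟨U, hx, h⟩
    exact (isInvertible_restrict_iff _ F).mp h ⟨x, hx⟩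

/-- Inverse images. -/
theorem invertibleAt_pullback (p : Y ⟶ X) (F : X.Modules) (y : Y)
    (h : RelCanon.InvertibleAt F (p y)) :
    RelCanon.InvertibleAt ((Scheme.Modules.pullback p).obj F) y := by
  rw [invertibleAt_iff_isGen] at h ⊢
  obtain ⟨U, e, hx, he⟩ := h
  exact ⟨p ⁻¹ᵁ U, pullSec p e, hx, he.pullSec p⟩

theorem invertibleAt_tensor (x : X) (hF : RelCanon.InvertibleAt F x)
    (hG : RelCanon.InvertibleAt G x) : RelCanon.InvertibleAt (CohB1.tensorMod F G) x := by
  rw [invertibleAt_iff_exists_restrict]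
  refine ⟨invLocus F ⊓ invLocus G, ⟨hF, hG⟩, ?_⟩
  refine K476.HomSh6.isInvertible_of_iso (Ega3B.TensRestrict.restrictIso _ F G).symm
    (isInvertible_tensorMod ?_ ?_)
  · exact (isInvertible_restrict_iff _ F).mpr fun y => y.2.1
  · exact (isInvertible_restrict_iff _ G).mpr fun y => y.2.2

theorem invertibleAt_structure (x : X) : RelCanon.InvertibleAt (Coh.structureModule X) x := by
  rw [invertibleAt_iff_isGen]
  exact ⟨⊤, one ⊤, trivial, isGen_one ⊤⟩

theorem invertibleAt_tensorPow (x : X) (hF : RelCanon.InvertibleAt F x) (n : ℕ) :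
    RelCanon.InvertibleAt (CohB1.tensorPow F n) x := by
  induction n with
  | zero => exact invertibleAt_structure x
  | succ n ih => exact invertibleAt_tensor x ih hF

theorem invertibleAt_dual (x : X) (hF : RelCanon.InvertibleAt F x) :
    RelCanon.InvertibleAt (dual F) x := by
  rw [invertibleAt_iff_exists_restrict] at hF ⊢
  obtain ⟨U, hx, hU⟩ := hF
  exact ⟨U, hx, K476.HomSh6.isInvertible_of_iso (K476.HomSh5.restrictDual U.ι F).symm
    (K476.HomSh6.isInvertible_dual hU)⟩

theorem invertibleAt_ddual (x : X) (hF : RelCanon.InvertibleAt F x) :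
    RelCanon.InvertibleAt (ddual F) x :=
  invertibleAt_dual x (invertibleAt_dual x hF)

/-- The stalk of a module invertible at `x`. -/
theorem nonempty_stalk_equiv (x : X) (h : RelCanon.InvertibleAt F x) :
    Nonempty (X.presheaf.stalk x ≃ₗ[X.presheaf.stalk x] F.presheaf.stalk x) := by
  obtain ⟨U, hx, ⟨e⟩⟩ := h
  obtain ⟨t, ht⟩ := CycB.ModStalk.exists_isGenOn_of_iso e
  exact ⟨LinearEquiv.ofBijective (LinearMap.toSpanSingleton _ _ (F.presheaf.germ U x hx t))
    (ht.isGen x hx)⟩

theorem free_stalk (x : X) (h : RelCanon.InvertibleAt F x) :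
    Module.Free (X.presheaf.stalk x) (F.presheaf.stalk x) := by
  obtain ⟨e⟩ := nonempty_stalk_equiv x h
  exact Module.Free.of_equiv e

theorem finrank_stalk (x : X) (h : RelCanon.InvertibleAt F x) :
    Module.finrank (X.presheaf.stalk x) (F.presheaf.stalk x) = 1 := by
  obtain ⟨e⟩ := nonempty_stalk_equiv x h
  rw [← e.finrank_eq]
  exact Module.finrank_self _

/-- The stalk criterion: a coherent module on a locally Noetherian scheme is invertible at `x` iff
its stalk at `x` is free of rank one. -/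
theorem invertibleAt_iff_stalk [IsLocallyNoetherian X] (hF : Coh.IsCoh F) (x : X) :
    RelCanon.InvertibleAt F x ↔
      Module.Free (X.presheaf.stalk x) (F.presheaf.stalk x) ∧
        Module.finrank (X.presheaf.stalk x) (F.presheaf.stalk x) = 1 := by
  constructor
  · exact fun h => ⟨free_stalk x h, finrank_stalk x h⟩
  · rintro ⟨h1, h2⟩
    rw [invertibleAt_iff_isGen]
    exact Pic13.H969.StalkFree.exists_isGen_of_free_stalk hF x h1 h2

theorem invertibleAt_iff_stalk_equiv [IsLocallyNoetherian X] (hF : Coh.IsCoh F) (x : X) :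
    RelCanon.InvertibleAt F x ↔
      Nonempty (X.presheaf.stalk x ≃ₗ[X.presheaf.stalk x] F.presheaf.stalk x) := by
  constructor
  · exact nonempty_stalk_equiv x
  · rintro ⟨e⟩
    rw [invertibleAt_iff_stalk hF]
    exact ⟨Module.Free.of_equiv e, by rw [← e.finrank_eq]; exact Module.finrank_self _⟩

/-- Invertibility at a point only depends on the stalk. -/
theorem invertibleAt_of_stalk_equiv [IsLocallyNoetherian X] (hF : Coh.IsCoh F) (hG : Coh.IsCoh G)
    (x : X) (e : F.presheaf.stalk x ≃ₗ[X.presheaf.stalk x] G.presheaf.stalk x)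
    (h : RelCanon.InvertibleAt F x) : RelCanon.InvertibleAt G x := by
  rw [invertibleAt_iff_stalk_equiv hF] at h
  obtain ⟨f⟩ := h
  exact (invertibleAt_iff_stalk_equiv hG x).mpr ⟨f.trans e⟩

/-- Generization. -/
theorem invertibleAt_of_specializes {x y : X} (hxy : x ⤳ y) (h : RelCanon.InvertibleAt F y) :
    RelCanon.InvertibleAt F x := by
  obtain ⟨U, hyU, hU⟩ := (invertibleAt_iff_nhd F y).mp h
  exact hU x (hxy.mem_open U.isOpen hyU)

/-- The stalk of the pullback of a module invertible at the image. -/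
theorem invertibleAt_pullback_iff_of_flat [IsLocallyNoetherian X] [IsLocallyNoetherian Y]
    (p : Y ⟶ X) [Flat p] (hF : Coh.IsCoh F) (y : Y) :
    RelCanon.InvertibleAt ((Scheme.Modules.pullback p).obj F) y ↔
      RelCanon.InvertibleAt F (p y) := by
  refine ⟨fun h => ?_, invertibleAt_pullback p F y⟩
  rw [invertibleAt_iff_stalk hF]
  have h1 := free_stalk y h
  have h2 := finrank_stalk y h
  letI := Fdesc.PullbackStalk.stalkAlg p y
  haveI : Module.FaithfullyFlat (X.presheaf.stalk (p.base y)) (Y.presheaf.stalk y) :=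
    Fdesc.StalkExt.faithfullyFlat_stalkMap p y
  have e := Fdesc.PullbackStalk.stalkPullbackEquiv p F y
  haveI : Module.Finite (X.presheaf.stalk (p.base y)) (F.presheaf.stalk (p.base y)) :=
    Divis.StalkMod.finite_stalk hF (p y)
  haveI : IsNoetherianRing (X.presheaf.stalk (p.base y)) := inferInstance
  haveI : Module.FinitePresentation (X.presheaf.stalk (p.base y)) (F.presheaf.stalk (p.base y)) :=
    Module.finitePresentation_of_finite _ _
  haveI : Module.Free (Y.presheaf.stalk y)
      (TensorProduct (X.presheaf.stalk (p.base y)) (Y.presheaf.stalk y)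
        (F.presheaf.stalk (p.base y))) := Module.Free.of_equiv e.symm
  haveI : Module.Flat (X.presheaf.stalk (p.base y)) (F.presheaf.stalk (p.base y)) :=
    Module.Flat.of_flat_tensorProduct _ _ (Y.presheaf.stalk y)
  have h3 : Module.Free (X.presheaf.stalk (p.base y)) (F.presheaf.stalk (p.base y)) :=
    Module.free_of_flat_of_isLocalRing
  refine ⟨h3, ?_⟩
  have h4 := e.finrank_eq
  rw [h2, Module.finrank_baseChange] at h4
  exact h4

end K970.InvAt
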