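import Groth.Agent.QGor.K970.RelSk1
import Groth.Agent.S2394
import Groth.Agent.Flat2C.FlatAtCriterion
import Groth.Prelude.Def_FlatCA

/-!
# Relative Serre conditions: open immersions and the affine chart form

* `K970.RelSk2.relSkAt_restrict_iff`: compatibility with open immersions on source and target;
* `K970.RelSk2.relSkAt_tilde_iff`: for `Spec C → Spec A` and `M~`, in terms of `FlatCA.FlatAt`,
  `EGA4.FibLocRing` and `EGA4.FibLocMod`;
* `K970.RelSk2.relSkAt_chart_iff`: the two together.
-/

set_option autoImplicit false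
set_option linter.style.haveILetI false
universe u

open AlgebraicGeometry CategoryTheory Limits IsLocalRing TopologicalSpace

namespace K970.RelSk2

open Groth.Agent Groth.Agent.Flat2D.FiberStalk K970.RelSk1

/-! ### Quotients along a semilinear equivalence -/

section Algebra

variable {R S M N : Type*} [CommRing R] [CommRing S] [AddCommGroup M] [Module R M]
  [AddCommGroup N] [Module S N]

theorem mem_smul_top_of_semilinear (σ : R →+* S) (e : M →+ N)
    (he : ∀ (r : R) (m : M), e (r • m) = σ r • e m) (I : Ideal R) (J : Ideal S)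
    (hIJ : I.map σ ≤ J) (m : M) (hm : m ∈ I • (⊤ : Submodule R M)) :
    e m ∈ J • (⊤ : Submodule S N) := by
  refine Submodule.smul_induction_on hm ?_ ?_
  · intro r hr m _
    rw [he]
    exact Submodule.smul_mem_smul (hIJ (Ideal.mem_map_of_mem _ hr)) trivial
  · intro x y hx hy
    rw [map_add]
    exact add_mem hx hy

/-- `(S_k)` for `M / I M` transfers along a semilinear equivalence. -/
theorem hasSk_quot_iff (k : ℕ) (σ : R ≃+* S) (e : M ≃+ N)
    (he : ∀ (r : R) (m : M), e (r • m) = σ r • e m) (I : Ideal R) (J : Ideal S)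
    (hIJ : I.map (σ : R →+* S) = J) :
    LocCoh.HasSk k (R ⧸ I) (M ⧸ (I • (⊤ : Submodule R M))) ↔
      LocCoh.HasSk k (S ⧸ J) (N ⧸ (J • (⊤ : Submodule S N))) := by
  have he' : ∀ (s : S) (n : N), e.symm (s • n) = σ.symm s • e.symm n := fun s n => by
    apply e.injective
    rw [he]
    simp
  have hJI : J.map (σ.symm : S →+* R) ≤ I := by
    rw [← hIJ, Ideal.map_map]
    have : (σ.symm : S →+* R).comp (σ : R →+* S) = RingHom.id R := by
      ext r
      simp
    rw [this, Ideal.map_id]
  have hmap : AddSubgroup.map (e : M →+ N) (I • (⊤ : Submodule R M)).toAddSubgroup =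
      (J • (⊤ : Submodule S N)).toAddSubgroup := by
    ext n
    constructor
    · rintro ⟨m, hm, rfl⟩
      exact mem_smul_top_of_semilinear (σ : R →+* S) (e : M →+ N) he I J hIJ.le m hm
    · intro hn
      refine ⟨e.symm n, ?_, e.apply_symm_apply n⟩
      exact mem_smul_top_of_semilinear (σ.symm : S →+* R) (e.symm : N →+ M) he' J I hJI n hn
  refine hasSk_iff_of_semilinearEquiv k (Ideal.quotientEquiv I J σ hIJ.symm)
    (QuotientAddGroup.congr _ _ e hmap : (M ⧸ (I • (⊤ : Submodule R M)).toAddSubgroup) ≃+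
      (N ⧸ (J • (⊤ : Submodule S N)).toAddSubgroup)) ?_
  intro r m
  obtain ⟨r, rfl⟩ := Ideal.Quotient.mk_surjective r
  obtain ⟨m, rfl⟩ := Submodule.Quotient.mk_surjective _ m
  exact congrArg (Submodule.Quotient.mk (p := J • (⊤ : Submodule S N))) (he r m)

end Algebra

/-! ### Open immersions -/

section Restrict

variable {X Y Z U : Scheme.{u}}

theorem fibreIdeal_map_stalkMap (f : X ⟶ Y) (j : U ⟶ X) (x : U) :
    (fibreIdeal f (j x)).map (j.stalkMap x).hom = fibreIdeal (j ≫ f) x := by
  rw [fibreIdeal_def, fibreIdeal_def, Ideal.map_map, Scheme.Hom.stalkMap_comp]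
  rfl

theorem fibreIdeal_comp (g : U ⟶ Z) (i : Z ⟶ Y) [IsOpenImmersion i] (x : U) :
    fibreIdeal (g ≫ i) x = fibreIdeal g x := by
  rw [fibreIdeal_def, fibreIdeal_def, Scheme.Hom.stalkMap_comp]
  refine (Ideal.map_map (I := maximalIdeal (Y.presheaf.stalk (i (g x)))) (i.stalkMap (g x)).hom
    (g.stalkMap x).hom).symm.trans ?_
  congr 1
  exact map_ringEquiv_maximalIdeal (asIso (i.stalkMap (g x))).commRingCatIsoToRingEquiv

theorem fibreIdeal_congr {f g : X ⟶ Y} (h : f = g) (x : X) : fibreIdeal f x = fibreIdeal g x := by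
  subst h; rfl

/-- Relative `(S_k)` of a restriction to an open subscheme. -/
theorem relSkAt_restrict_iff_comp (f : X ⟶ Y) (j : U ⟶ X) [IsOpenImmersion j] (k : ℕ)
    (F : X.Modules) (x : U) :
    RelCanon.RelSkAt (j ≫ f) k (F.restrict j) x ↔ RelCanon.RelSkAt f k F (j x) := by
  rw [relSkAt_iff, relSkAt_iff, Ega3B.FlatRestrict.isFlatOverAt_restrict_iff_comp]
  refine and_congr_right fun _ => ?_
  have h := fibreIdeal_map_stalkMap f j x
  refine (hasSk_quot_iff k (asIso (j.stalkMap x)).commRingCatIsoToRingEquiv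
    (Ega3B.FlatRestrict.stalkEquiv j F x).symm ?_ _ _ h).symm
  intro r m
  apply (Ega3B.FlatRestrict.stalkEquiv j F x).injective
  rw [AddEquiv.apply_symm_apply]
  refine Eq.trans ?_ (Ega3B.FlatRestrict.stalkEquiv_smul j F x r _).symm
  rw [AddEquiv.apply_symm_apply]

theorem relSkAt_comp_iff (g : U ⟶ Z) (i : Z ⟶ Y) [IsOpenImmersion i] (k : ℕ) (G : U.Modules)
    (x : U) : RelCanon.RelSkAt (g ≫ i) k G x ↔ RelCanon.RelSkAt g k G x := by
  rw [relSkAt_iff, relSkAt_iff, Ega3B.FlatRestrict.isFlatOverAt_comp_iff]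
  refine and_congr_right fun _ => ?_
  unfold FibStalk FibRingStalk
  rw [fibreIdeal_comp]

/-- Relative `(S_k)` and open immersions on the source and on the target. -/
theorem relSkAt_restrict_iff (f : X ⟶ Y) (g : U ⟶ Z) (j : U ⟶ X) (i : Z ⟶ Y)
    [IsOpenImmersion j] [IsOpenImmersion i] (h : j ≫ f = g ≫ i) (k : ℕ) (F : X.Modules) (x : U) :
    RelCanon.RelSkAt g k (F.restrict j) x ↔ RelCanon.RelSkAt f k F (j x) := by
  rw [← relSkAt_restrict_iff_comp, ← relSkAt_comp_iff g i, h]

end Restrict

/-! ### The chart form -/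

section Chart

variable {A C : Type u} [CommRing A] [CommRing C] [Algebra A C]

/-- the stalk of `M~` is the localization of `M` -/
theorem exists_stalk_equiv (M : Type u) [AddCommGroup M] [Module C M]
    (q : PrimeSpectrum C) (x : Spec (CommRingCat.of C)) (hx : x = q) :
    ∃ (σ : Localization.AtPrime q.asIdeal ≃+* (Spec (CommRingCat.of C)).presheaf.stalk x)
      (e : LocalizedModule q.asIdeal.primeCompl M ≃+
        (tilde (R := CommRingCat.of C) (ModuleCat.of C M)).presheaf.stalk x),
      (∀ c : C, σ (algebraMap C _ c) = S2394.tos (CommRingCat.of C) x c) ∧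
      ∀ r m, e (r • m) = σ r • e m := by
  subst hx
  letI := S2394.algStalk (CommRingCat.of C) x
  letI : Algebra C ((Spec (CommRingCat.of C)).presheaf.stalk x) :=
    S2394.algStalk (CommRingCat.of C) x
  let q : PrimeSpectrum C := x
  haveI : IsLocalization.AtPrime ((Spec (CommRingCat.of C)).presheaf.stalk x) q.asIdeal :=
    S2394.isLocalization_stalk (CommRingCat.of C) x
  letI : Module C ((tilde (R := CommRingCat.of C) (ModuleCat.of C M)).presheaf.stalk x) :=
    S2394.modStalk (CommRingCat.of C) (ModuleCat.of C M) x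
  obtain ⟨g, hg⟩ := S2394.exists_isLocalizedModule_stalk (CommRingCat.of C) (ModuleCat.of C M) x
  let σ : Localization.AtPrime q.asIdeal ≃ₐ[C] (Spec (CommRingCat.of C)).presheaf.stalk x :=
    IsLocalization.algEquiv q.asIdeal.primeCompl _ _
  let e : LocalizedModule q.asIdeal.primeCompl M ≃ₗ[C]
      (tilde (R := CommRingCat.of C) (ModuleCat.of C M)).presheaf.stalk x :=
    IsLocalizedModule.iso q.asIdeal.primeCompl g
  haveI : IsScalarTower C ((Spec (CommRingCat.of C)).presheaf.stalk x)
      ((tilde (R := CommRingCat.of C) (ModuleCat.of C M)).presheaf.stalk x) :=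
    IsScalarTower.of_algebraMap_smul fun _ _ => rfl
  refine ⟨σ.toRingEquiv, e.toAddEquiv, fun c => σ.commutes c, fun r m => ?_⟩
  obtain ⟨⟨a, s⟩, rfl⟩ := IsLocalization.mk'_surjective q.asIdeal.primeCompl r
  have hu : IsUnit (algebraMap C ((Spec (CommRingCat.of C)).presheaf.stalk x) s) :=
    IsLocalization.map_units _ s
  have hinj : Function.Injective (fun n : (tilde (R := CommRingCat.of C)
      (ModuleCat.of C M)).presheaf.stalk x => (s : C) • n) := by
    intro a b hab
    have hab' : algebraMap C ((Spec (CommRingCat.of C)).presheaf.stalk x) s • a =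
      algebraMap C ((Spec (CommRingCat.of C)).presheaf.stalk x) s • b := by
      rw [algebraMap_smul, algebraMap_smul]; exact hab
    exact hu.smul_left_cancel.mp hab'
  apply hinj
  change (s : C) • e (IsLocalization.mk' _ a s • m) =
    (s : C) • (σ (IsLocalization.mk' _ a s) • e m)
  have h1 : (s : C) • e (IsLocalization.mk' (Localization.AtPrime q.asIdeal) a s • m) =
      a • e m := by
    rw [← map_smul, ← algebraMap_smul (Localization.AtPrime q.asIdeal) (s : C)
      (IsLocalization.mk' (Localization.AtPrime q.asIdeal) a s • m), smul_smul,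
      IsLocalization.mk'_spec', algebraMap_smul, map_smul]
  rw [h1, ← algebraMap_smul ((Spec (CommRingCat.of C)).presheaf.stalk x) (s : C) (σ _ • e m),
    smul_smul, ← σ.commutes (s : C), ← map_mul, IsLocalization.mk'_spec', σ.commutes,
    algebraMap_smul]

/-- the ideal of the fibre, on a chart -/
theorem fibreIdeal_chart (x : Spec (CommRingCat.of C)) (q : PrimeSpectrum C) (hx : x = q) :
    fibreIdeal (Spec.map (CommRingCat.ofHom (algebraMap A C))) x =
      (q.asIdeal.comap (algebraMap A C)).map
        ((S2394.tos (CommRingCat.of C) x).comp (algebraMap A C)) := by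
  subst hx
  let φ : CommRingCat.of A ⟶ CommRingCat.of C := CommRingCat.ofHom (algebraMap A C)
  letI := S2394.algStalk (CommRingCat.of A) (Spec.map φ x)
  letI : Algebra A ((Spec (CommRingCat.of A)).presheaf.stalk (Spec.map φ x)) :=
    S2394.algStalk (CommRingCat.of A) (Spec.map φ x)
  let p : PrimeSpectrum A := Spec.map φ x
  have hloc : IsLocalization.AtPrime ((Spec (CommRingCat.of A)).presheaf.stalk (Spec.map φ x))
    p.asIdeal := S2394.isLocalization_stalk (CommRingCat.of A) (Spec.map φ x)
  have h1 : maximalIdeal ((Spec (CommRingCat.of A)).presheaf.stalk (Spec.map φ x)) =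
      (p.asIdeal).map (S2394.tos (CommRingCat.of A) (Spec.map φ x)) :=
    (IsLocalization.AtPrime.map_eq_maximalIdeal p.asIdeal
      ((Spec (CommRingCat.of A)).presheaf.stalk (Spec.map φ x))).symm
  rw [fibreIdeal_def]
  change Ideal.map _ (maximalIdeal ((Spec (CommRingCat.of A)).presheaf.stalk (Spec.map φ x))) = _
  rw [h1, Ideal.map_map]
  have h2 : ((Spec.map φ).stalkMap x).hom.comp (S2394.tos (CommRingCat.of A) (Spec.map φ x)) =
      (S2394.tos (CommRingCat.of C) x).comp (algebraMap A C) := by
    ext a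
    exact stalkMap_toStalk_apply φ x a
  rw [h2]
  rfl

/-- **Chart form of relative `(S_k)`** -/
theorem relSkAt_tilde_iff (M : Type u) [AddCommGroup M] [Module C M] [Module A M]
    [IsScalarTower A C M] (k : ℕ) (q : PrimeSpectrum C) (x : Spec (CommRingCat.of C))
    (hx : x = q) :
    RelCanon.RelSkAt (Spec.map (CommRingCat.ofHom (algebraMap A C))) k
        (tilde (R := CommRingCat.of C) (ModuleCat.of C M)) x ↔
      FlatCA.FlatAt A q.asIdeal M ∧
        LocCoh.HasSk k (EGA4.FibLocRing A C q.asIdeal) (EGA4.FibLocMod A C q.asIdeal M) := by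
  obtain ⟨σ, e, hσ, he⟩ := exists_stalk_equiv M q x hx
  rw [relSkAt_iff]
  refine and_congr ?_ ?_
  · rw [S2394.flatAt_iff]
    letI := Module.compHom ((tilde (R := CommRingCat.of C) (ModuleCat.of C M)).presheaf.stalk x)
      ((S2394.tos (CommRingCat.of C) x).comp (CommRingCat.ofHom (algebraMap A C)).hom)
    refine (Ega3B.FlatRestrict.flat_iff_of_semilinear (RingEquiv.refl A) e fun a m => ?_).symm
    change e (a • m) = (S2394.tos (CommRingCat.of C) x) (algebraMap A C a) • e m
    rw [← hσ, ← he]
    congr 1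
    rw [algebraMap_smul, algebraMap_smul]
  · refine (hasSk_quot_iff k σ e he _ _ ?_).symm
    rw [fibreIdeal_chart x q hx, Ideal.map_map]
    congr 1
    ext a
    change σ (algebraMap A (Localization.AtPrime q.asIdeal) a) = _
    rw [IsScalarTower.algebraMap_apply A C (Localization.AtPrime q.asIdeal), hσ]
    rfl

/-- The chart form of relative `(S_k)` for an open immersion `Spec C → X` over `Spec A`. -/
theorem relSkAt_chart_iff {X : Scheme.{u}} (f : X ⟶ Spec (CommRingCat.of A))
    (j : Spec (CommRingCat.of C) ⟶ X) [IsOpenImmersion j]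
    (hj : j ≫ f = Spec.map (CommRingCat.ofHom (algebraMap A C)))
    (F : X.Modules) (M : Type u) [AddCommGroup M] [Module C M] [Module A M]
    [IsScalarTower A C M] (eF : F.restrict j ≅ tilde (R := CommRingCat.of C) (ModuleCat.of C M))
    (k : ℕ) (q : PrimeSpectrum C) (x : Spec (CommRingCat.of C)) (hx : x = q) :
    RelCanon.RelSkAt f k F (j x) ↔
      FlatCA.FlatAt A q.asIdeal M ∧
        LocCoh.HasSk k (EGA4.FibLocRing A C q.asIdeal) (EGA4.FibLocMod A C q.asIdeal M) := by
  rw [← relSkAt_tilde_iff M k q x hx, ← relSkAt_restrict_iff_comp, hj]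
  exact relSkAt_iff_of_iso _ k eF x

end Chart

end K970.RelSk2
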