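import Groth.Agent.QGor.K970.Chart
import Groth.Agent.CycB.RelDim4
import Groth.Agent.S3626
import Groth.Agent.S3617
import Groth.Prelude.Def_Cyc
import Groth.Agent.CycB.PushStalk
import Groth.Agent.CurvesB.UnitCoh

/-!
# Base change of the standing hypotheses

For a cartesian square over `Spec B → Spec A` with `f` locally of finite type:

* `isSkMor`: base change of `S_k`-morphisms;
* `hasRelDim_of_isPullback`: base change of pure relative dimension;
* `codim_gorLocus`: the condition on the codimension of the complement of the Gorenstein locus;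
* `exists_fibre_square`: the fibre over a point as a base change.
-/

set_option autoImplicit false
set_option linter.style.haveILetI false
universe u

open AlgebraicGeometry CategoryTheory Limits TopologicalSpace RefHull TensorProduct

namespace K970.BCHyp

open Groth.Agent K970.RelSk1 K970.RelSk2 K970.TildeDual K970.Chart

section RelDim

open Groth.Agent.CycB.RelDim

variable {X X' Y Y' : Scheme.{u}} {f : X ⟶ Y} {g : Y' ⟶ Y} {f' : X' ⟶ Y'} {p : X' ⟶ X}

theorem hasRelDim_of_iso (e : X' ≅ X) [LocallyOfFiniteType f] {r : ℕ} (h : Cyc.HasRelDim f r) :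
    Cyc.HasRelDim (e.hom ≫ f) r := by
  rw [hasRelDim_iff]
  intro x hx
  have h1 : FibGeneric f (e.hom x) := by
    intro y hy hs
    have hy' : e.hom (e.inv y) = y := by
      simp
    have hx' : e.inv (e.hom x) = x := by
      simp
    have h2 : e.inv y = x := by
      refine hx _ ?_ ?_
      · change f (e.hom (e.inv y)) = f (e.hom x)
        rw [hy', hy]
      · have := hs.map e.inv.continuous
        rwa [hx'] at this
    rw [← hy', h2]
  rw [rtd_comp, rtd_eq_zero_of_isPreimmersion e.hom, add_zero]
  exact rtd_of_fibGeneric h h1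

/-- Pure relative dimension is stable under base change. -/
theorem hasRelDim_of_isPullback (H : IsPullback p f' f g) [LocallyOfFiniteType f] {r : ℕ}
    (h : Cyc.HasRelDim f r) : Cyc.HasRelDim f' r := by
  have h1 := hasRelDim_fst (f := g) (g := f) h
  have h2 := hasRelDim_of_iso (H.flip.isoPullback) h1
  rwa [IsPullback.isoPullback_hom_fst] at h2

end RelDim

section Fibre

variable {X Y : Scheme.{u}}

/-- The fibre stalk of the structure module. -/
theorem skAt_structureModule_fibre_iff (f : X ⟶ Y) (k : ℕ) (x : X) :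
    RelCanon.SkAt k (Coh.structureModule (f.fiber (f x))) (f.asFiber x) ↔
      LocCoh.HasSk k (FibRingStalk f x) (FibStalk f (Coh.structureModule X) x) := by
  rw [← skAt_asFiber_iff]
  exact skAt_iff_of_iso k (FormalA.PullbackQC.pullbackUnitIso (f.fiberι (f x))).symm _

theorem nonempty_fibre_stalk_equiv (f : X ⟶ Y) (x : X) :
    Nonempty (FibRingStalk f x ≃+* (f.fiber (f x)).presheaf.stalk (f.asFiber x)) :=
  Flat2D.FiberStalk.nonempty_asFiber_stalkEquiv f x

end Fibre

section BaseChange

variable {A B : Type u} [CommRing A] [CommRing B] [Algebra A B]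
  {X X' : Scheme.{u}} {f : X ⟶ Spec (CommRingCat.of A)} {f' : X' ⟶ Spec (CommRingCat.of B)}
  {p : X' ⟶ X}

/-- The base change of an `S_k`-morphism. -/
theorem isSkMor (H : IsPullback p f' f (Spec.map (CommRingCat.ofHom (algebraMap A B)))) (k : ℕ)
    (h : RelCanon.IsSkMor f k) : RelCanon.IsSkMor f' k := by
  obtain ⟨h1, h2, h3⟩ := h
  refine ⟨MorphismProperty.of_isPullback (P := @Flat) H h1,
    MorphismProperty.of_isPullback (P := @LocallyOfFiniteType) H h2, fun x' => ?_⟩
  have h4 := (skAt_structureModule_fibre_iff f k (p x')).mp (h3 (p x'))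
  rw [skFib_pullback_iff H _ (CurvesB.UnitCoh.isCoh_structureModule X) k x'] at h4
  rw [← skAt_asFiber_iff] at h4
  exact skAt_of_iso k ((Scheme.Modules.pullback (f'.fiberι (f' x'))).mapIso
    (FormalA.PullbackQC.pullbackUnitIso p) ≪≫ FormalA.PullbackQC.pullbackUnitIso _) _ h4

/-- The local ring of the fibre, in a chart. -/
theorem nonempty_fibRing_chart {C : Type u} [CommRing C] [Algebra A C]
    {j : Spec (CommRingCat.of C) ⟶ X} [IsOpenImmersion j]
    (hj : j ≫ f = Spec.map (CommRingCat.ofHom (algebraMap A C)))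
    (q : PrimeSpectrum C) (x : Spec (CommRingCat.of C)) (hx : x = q) :
    Nonempty (EGA4.FibLocRing A C q.asIdeal ≃+* FibRingStalk f (j x)) := by
  obtain ⟨σ, e, hσ, he⟩ := exists_stalk_equiv C q x hx
  have h1 := fibreIdeal_map_stalkMap f j x
  let e₁ : FibRingStalk f (j x) ≃+* FibRingStalk (j ≫ f) x :=
    Ideal.quotientEquiv _ _ (asIso (j.stalkMap x)).commRingCatIsoToRingEquiv h1.symm
  have h2 : Ideal.map (σ : _ →+* _)
      ((q.asIdeal.comap (algebraMap A C)).map (algebraMap A (Localization.AtPrime q.asIdeal))) =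
        Flat2D.FiberStalk.fibreIdeal (j ≫ f) x := by
    rw [hj, fibreIdeal_chart x q hx, Ideal.map_map]
    congr 1
    ext a
    change σ (algebraMap A (Localization.AtPrime q.asIdeal) a) = _
    rw [IsScalarTower.algebraMap_apply A C (Localization.AtPrime q.asIdeal), hσ]
    rfl
  exact ⟨(Ideal.quotientEquiv _ _ σ h2.symm).trans e₁.symm⟩

/-- The dimension of the local ring of the fibre, in a chart. -/
theorem ringKrullDim_fibre_chart {C : Type u} [CommRing C] [Algebra A C]
    {j : Spec (CommRingCat.of C) ⟶ X} [IsOpenImmersion j]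
    (hj : j ≫ f = Spec.map (CommRingCat.ofHom (algebraMap A C)))
    (q : PrimeSpectrum C) (x : Spec (CommRingCat.of C)) (hx : x = q) :
    ringKrullDim (EGA4.FibLocRing A C q.asIdeal) =
      ringKrullDim ((f.fiber (f (j x))).presheaf.stalk (f.asFiber (j x))) := by
  obtain ⟨e⟩ := nonempty_fibRing_chart hj q x hx
  obtain ⟨e'⟩ := nonempty_fibre_stalk_equiv f (j x)
  exact ringKrullDim_eq_of_ringEquiv (e.trans e')

/-- The dimension of the local ring of the fibre does not decrease under base change. -/
theorem ringKrullDim_fibre_le [LocallyOfFiniteType f]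
    (H : IsPullback p f' f (Spec.map (CommRingCat.ofHom (algebraMap A B)))) (x' : X') :
    ringKrullDim ((f.fiber (f (p x'))).presheaf.stalk (f.asFiber (p x'))) ≤
      ringKrullDim ((f'.fiber (f' x')).presheaf.stalk (f'.asFiber x')) := by
  obtain ⟨C, _, _, hft, j, _, j', _, q', hj, hj', hp, hq', -⟩ := exists_charts H x' ⊤ trivial
  letI : Algebra B (C ⊗[A] B) := Algebra.TensorProduct.rightAlgebra
  haveI : Algebra.IsPushout A C B (C ⊗[A] B) := TensorProduct.isPushout
  haveI : Algebra.IsPushout A B C (C ⊗[A] B) := Algebra.IsPushout.symm inferInstance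
  subst hq'
  have hx : p (j' q') = j (Spec.map (CommRingCat.ofHom (algebraMap C (C ⊗[A] B))) q') := by
    have := congrArg (fun g => g q') hp
    simpa using this
  rw [← ringKrullDim_fibre_chart hj' q' q' rfl, hx, ← ringKrullDim_fibre_chart hj
    (PrimeSpectrum.comap (algebraMap C (C ⊗[A] B)) q')
    (Spec.map (CommRingCat.ofHom (algebraMap C (C ⊗[A] B))) q') rfl]
  exact FibBC.ringKrullDim_fib_le (A := A) (A' := B) (B := C) (B' := C ⊗[A] B) q'

/-- The condition on the codimension of the complement of the relative Gorenstein locus is stable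
under base change. -/
theorem codim_gorLocus [Flat f] [LocallyOfFiniteType f]
    (H : IsPullback p f' f (Spec.map (CommRingCat.ofHom (algebraMap A B)))) (c : WithBot ℕ∞)
    (hG : ∀ x : X, x ∉ RelCanon.gorLocus f →
      c ≤ ringKrullDim ((f.fiber (f x)).presheaf.stalk (f.asFiber x)))
    (x' : X') (hx' : x' ∉ RelCanon.gorLocus f') :
    c ≤ ringKrullDim ((f'.fiber (f' x')).presheaf.stalk (f'.asFiber x')) := by
  refine (hG (p x') fun h => hx' ?_).trans (ringKrullDim_fibre_le H x')
  exact (S3626.result X _ X' _ f _ f' p H x').mpr h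

end BaseChange

section Cat

variable {A : Type u} [CommRing A] {B : CommRingCat.{u}} (φ : CommRingCat.of A ⟶ B)
  {X X' : Scheme.{u}} {f : X ⟶ Spec (CommRingCat.of A)} {f' : X' ⟶ Spec B} {p : X' ⟶ X}

include φ

theorem isSkMor_cat (H : IsPullback p f' f (Spec.map φ)) (k : ℕ)
    (h : RelCanon.IsSkMor f k) : RelCanon.IsSkMor f' k := by
  letI := φ.hom.toAlgebra
  exact isSkMor (B := B) H k h

theorem codim_gorLocus_cat [Flat f] [LocallyOfFiniteType f]
    (H : IsPullback p f' f (Spec.map φ)) (c : WithBot ℕ∞)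
    (hG : ∀ x : X, x ∉ RelCanon.gorLocus f →
      c ≤ ringKrullDim ((f.fiber (f x)).presheaf.stalk (f.asFiber x)))
    (x' : X') (hx' : x' ∉ RelCanon.gorLocus f') :
    c ≤ ringKrullDim ((f'.fiber (f' x')).presheaf.stalk (f'.asFiber x')) := by
  letI := φ.hom.toAlgebra
  exact codim_gorLocus (B := B) H c hG x' hx'

theorem ringKrullDim_fibre_le_cat [LocallyOfFiniteType f]
    (H : IsPullback p f' f (Spec.map φ)) (x' : X') :
    ringKrullDim ((f.fiber (f (p x'))).presheaf.stalk (f.asFiber (p x'))) ≤
      ringKrullDim ((f'.fiber (f' x')).presheaf.stalk (f'.asFiber x')) := by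
  letI := φ.hom.toAlgebra
  exact ringKrullDim_fibre_le (B := B) H x'

theorem relSkAt_pullback_cat [LocallyOfFiniteType f]
    (H : IsPullback p f' f (Spec.map φ)) (F : X.Modules)
    (hF : Coh.IsCoh F) (k : ℕ) (x' : X') (h : RelCanon.RelSkAt f k F (p x')) :
    RelCanon.RelSkAt f' k ((Scheme.Modules.pullback p).obj F) x' := by
  letI := φ.hom.toAlgebra
  exact relSkAt_pullback (B := B) H F hF k x' h

theorem relSkAt_of_pullback_cat [LocallyOfFiniteType f]
    (H : IsPullback p f' f (Spec.map φ)) (F : X.Modules)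
    (hF : Coh.IsCoh F) (k : ℕ) (x' : X') (hg : ((Spec.map φ).stalkMap (f' x')).hom.Flat)
    (h : RelCanon.RelSkAt f' k ((Scheme.Modules.pullback p).obj F) x') :
    RelCanon.RelSkAt f k F (p x') := by
  letI := φ.hom.toAlgebra
  exact relSkAt_of_pullback (B := B) H F hF k x' hg h

end Cat

section FibreSquare

variable {A : Type u} [CommRing A] {X : Scheme.{u}} (f : X ⟶ Spec (CommRingCat.of A))

/-- The ring map to a residue field. -/
noncomputable def toRes (t : Spec (CommRingCat.of A)) :
    CommRingCat.of A ⟶ (Spec (CommRingCat.of A)).residueField t :=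
  Spec.preimage ((Spec (CommRingCat.of A)).fromSpecResidueField t)

theorem SpecMap_toRes (t : Spec (CommRingCat.of A)) :
    Spec.map (toRes t) = (Spec (CommRingCat.of A)).fromSpecResidueField t :=
  Spec.map_preimage _

/-- The fibre as a base change. -/
theorem isPullback_fibre (t : Spec (CommRingCat.of A)) :
    IsPullback (f.fiberι t) (f.fiberToSpecResidueField t) f (Spec.map (toRes t)) := by
  rw [SpecMap_toRes]
  exact IsPullback.of_hasPullback _ _

variable {f}

/-- The standing hypotheses for a fibre. -/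
theorem fibre_hyps [IsProper f] (t : Spec (CommRingCat.of A)) {k d : ℕ}
    (h : RelCanon.IsSkMor f k) (hd : Cyc.HasRelDim f d) (c : WithBot ℕ∞)
    (hG : ∀ x : X, x ∉ RelCanon.gorLocus f →
      c ≤ ringKrullDim ((f.fiber (f x)).presheaf.stalk (f.asFiber x))) :
    IsProper (f.fiberToSpecResidueField t) ∧
    RelCanon.IsSkMor (f.fiberToSpecResidueField t) k ∧
    Cyc.HasRelDim (f.fiberToSpecResidueField t) d ∧
    ∀ y, y ∉ RelCanon.gorLocus (f.fiberToSpecResidueField t) →
      c ≤ ringKrullDim (((f.fiberToSpecResidueField t).fiber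
        ((f.fiberToSpecResidueField t) y)).presheaf.stalk
          ((f.fiberToSpecResidueField t).asFiber y)) := by
  have H := isPullback_fibre f t
  haveI : Flat f := h.1
  exact ⟨MorphismProperty.of_isPullback (P := @IsProper) H inferInstance,
    isSkMor_cat (toRes t) H k h, hasRelDim_of_isPullback H hd,
    codim_gorLocus_cat (toRes t) H c hG⟩

/-- The fibre through a point of a base change, as a base change of the fibre. -/
theorem exists_fibre_fibre {B : Type u} [CommRing B] (φ : CommRingCat.of A ⟶ CommRingCat.of B)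
    {X' : Scheme.{u}} {f' : X' ⟶ Spec (CommRingCat.of B)} {p : X' ⟶ X}
    (H : IsPullback p f' f (Spec.map φ)) (t' : Spec (CommRingCat.of B)) :
    ∃ (ψ : (Spec (CommRingCat.of A)).residueField (Spec.map φ t') ⟶
        (Spec (CommRingCat.of B)).residueField t')
      (r : f'.fiber t' ⟶ f.fiber (Spec.map φ t')),
      IsPullback r (f'.fiberToSpecResidueField t')
        (f.fiberToSpecResidueField (Spec.map φ t')) (Spec.map ψ) ∧
      r ≫ f.fiberι (Spec.map φ t') = f'.fiberι t' ≫ p := by
  let ψ := (Spec.map φ).residueFieldMap t'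
  have e1 : Spec.map ψ ≫ (Spec (CommRingCat.of A)).fromSpecResidueField (Spec.map φ t') =
      (Spec (CommRingCat.of B)).fromSpecResidueField t' ≫ Spec.map φ :=
    Scheme.Hom.SpecMap_residueFieldMap_fromSpecResidueField _ _
  have H1 : IsPullback (f'.fiberι t') (f'.fiberToSpecResidueField t') f'
      ((Spec (CommRingCat.of B)).fromSpecResidueField t') := IsPullback.of_hasPullback _ _
  have H2 : IsPullback (f.fiberι (Spec.map φ t')) (f.fiberToSpecResidueField (Spec.map φ t')) f
      ((Spec (CommRingCat.of A)).fromSpecResidueField (Spec.map φ t')) :=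
    IsPullback.of_hasPullback _ _
  have H3 := H1.paste_horiz H
  rw [← e1] at H3
  let r : f'.fiber t' ⟶ f.fiber (Spec.map φ t') := H2.lift (f'.fiberι t' ≫ p)
    (f'.fiberToSpecResidueField t' ≫ Spec.map ψ) (by rw [H3.w, Category.assoc])
  have h1 : r ≫ f.fiberι (Spec.map φ t') = f'.fiberι t' ≫ p := H2.lift_fst _ _ _
  have h2 : r ≫ f.fiberToSpecResidueField (Spec.map φ t') =
    f'.fiberToSpecResidueField t' ≫ Spec.map ψ := H2.lift_snd _ _ _
  refine ⟨ψ, r, ?_, h1⟩
  rw [← h1] at H3
  exact IsPullback.of_right H3 h2 H2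

end FibreSquare

end K970.BCHyp
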