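import Groth.Agent.QGor.K970.InvAt
import Groth.Agent.RefCh.K939.FlatDual
import Groth.Agent.Ega2.TensPow
import Groth.Agent.CurvesB.UnitCoh

/-!
# Integer reflexive powers `RelCanon.refPowZ`

Isomorphism invariance, coherence, restriction to opens, invertibility, flat pullback.
-/

set_option autoImplicit false
set_option linter.style.haveILetI false
universe u

open AlgebraicGeometry CategoryTheory Limits TopologicalSpace RefHull

namespace K970.RefPow

open Groth.Agent Groth.Agent.Ega2

variable {X Y : Scheme.{u}} {F G : X.Modules}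

/-- Reflexive powers of isomorphic modules. -/
noncomputable def refPowZIso (e : F ≅ G) : (m : ℤ) → (RelCanon.refPowZ F m ≅ RelCanon.refPowZ G m)
  | Int.ofNat m => K476.HomSh1.ddualIso (TensPow.powIso e m)
  | Int.negSucc n => K476.HomSh1.ddualIso (TensPow.powIso (K476.HomSh1.dualIso e) (n + 1))

theorem isCoh_tensorPow (hF : Coh.IsCoh F) (n : ℕ) : Coh.IsCoh (CohB1.tensorPow F n) := by
  induction n with
  | zero => exact CurvesB.UnitCoh.isCoh_structureModule X
  | succ n ih => exact K939.Codim1.isCoh_tensor ih hF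

theorem isCoh_refPowZ [IsLocallyNoetherian X] (hF : Coh.IsCoh F) (m : ℤ) :
    Coh.IsCoh (RelCanon.refPowZ F m) := by
  cases m with
  | ofNat m => exact K476.HomSh4.isCoh_ddual (isCoh_tensorPow hF m)
  | negSucc n =>
    exact K476.HomSh4.isCoh_ddual (isCoh_tensorPow (K476.HomSh4.isCoh_dual hF) (n + 1))

/-- Restriction of reflexive powers to an open subscheme. -/
theorem nonempty_restrict_refPowZ (j : Y ⟶ X) [IsOpenImmersion j] (F : X.Modules) (m : ℤ) :
    Nonempty ((RelCanon.refPowZ F m).restrict j ≅ RelCanon.refPowZ (F.restrict j) m) := by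
  cases m with
  | ofNat m =>
    obtain ⟨e⟩ := Ega3B.TensRestrict.restrictPowIso j F m
    exact ⟨K476.HomSh5.restrictDDual j _ ≪≫ K476.HomSh1.ddualIso e⟩
  | negSucc n =>
    obtain ⟨e⟩ := Ega3B.TensRestrict.restrictPowIso j (dual F) (n + 1)
    exact ⟨K476.HomSh5.restrictDDual j _ ≪≫ K476.HomSh1.ddualIso (e ≪≫
      TensPow.powIso (K476.HomSh5.restrictDual j F) (n + 1))⟩

theorem invertibleAt_refPowZ (x : X) (hF : RelCanon.InvertibleAt F x) (m : ℤ) :
    RelCanon.InvertibleAt (RelCanon.refPowZ F m) x := by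
  cases m with
  | ofNat m => exact InvAt.invertibleAt_ddual x (InvAt.invertibleAt_tensorPow x hF m)
  | negSucc n =>
    exact InvAt.invertibleAt_ddual x
      (InvAt.invertibleAt_tensorPow x (InvAt.invertibleAt_dual x hF) (n + 1))

/-- Pullback of tensor powers. -/
theorem nonempty_pullback_tensorPow (f : Y ⟶ X) (F : X.Modules) (n : ℕ) :
    Nonempty ((Scheme.Modules.pullback f).obj (CohB1.tensorPow F n) ≅
      CohB1.tensorPow ((Scheme.Modules.pullback f).obj F) n) := by
  induction n with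
  | zero => exact ⟨K939.FlatDual.unitIso f⟩
  | succ n ih =>
    obtain ⟨e⟩ := ih
    exact ⟨K939.FlatDual.tensorIso f _ _ ≪≫ Tens.mapTIso e (Iso.refl _)⟩

/-- Flat pullback of reflexive powers. -/
theorem nonempty_pullback_refPowZ (f : Y ⟶ X) [Flat f] [IsLocallyNoetherian X]
    (hF : Coh.IsCoh F) (m : ℤ) :
    Nonempty ((Scheme.Modules.pullback f).obj (RelCanon.refPowZ F m) ≅
      RelCanon.refPowZ ((Scheme.Modules.pullback f).obj F) m) := by
  cases m with
  | ofNat m =>
    obtain ⟨e⟩ := nonempty_pullback_tensorPow f F m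
    obtain ⟨e'⟩ := K939.FlatDual.nonempty_ddual (f := f) (isCoh_tensorPow hF m)
    exact ⟨e' ≪≫ K476.HomSh1.ddualIso e⟩
  | negSucc n =>
    obtain ⟨e⟩ := nonempty_pullback_tensorPow f (dual F) (n + 1)
    obtain ⟨e'⟩ := K939.FlatDual.nonempty_ddual (f := f)
      (isCoh_tensorPow (K476.HomSh4.isCoh_dual hF) (n + 1))
    obtain ⟨e''⟩ := K939.FlatDual.nonempty_dual_of_isCoh (f := f) hF
    exact ⟨e' ≪≫ K476.HomSh1.ddualIso (e ≪≫ TensPow.powIso e'' (n + 1))⟩

end K970.RefPow
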