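import Groth.Agent.Ega4fib.H143.FieldPred
import Groth.Agent.Ega4C.SkField
import Groth.Agent.Ega4A.SkFlat
import Groth.Agent.Ega43.FibSpec
import Groth.Agent.Ega4B.SkLocal
import Groth.Agent.Ega43.FibAff
import Groth.Agent.QGor.K970.RelSk1

/-!
# Base change of the fibre stalks

For a pushout square `A → B`, `A' → B' = A' ⊗ B` with `B` of finite type over `A`, and a prime `q'`
of `B'` over `q`:

* `exists_fibData`: the local rings of the fibres at `q` and `q'` are localizations of a finite type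
  algebra `T` over a field `K` and of `L ⊗[K] T`;
* `hasSk_fib_iff`: `(S_k)` for `M_q / p M_q` is equivalent to `(S_k)` for the fibre stalk of `B' ⊗ M`
  at `q'`;
* `ringKrullDim_fib_le`: the dimension of the fibre local ring goes up.
-/

set_option autoImplicit false
set_option linter.style.haveILetI false
universe u

open TensorProduct IsLocalRing

namespace K970.FibBC

open Groth.Agent Groth.Agent.Ega4fib.H143

section Equiv

variable {R S : Type u} [CommRing R] [CommRing S] [Algebra R S]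

open Ideal Algebra Algebra.TensorProduct in
attribute [local instance] Algebra.TensorProduct.rightAlgebra in
/-- The local ring of the fibre, as an algebra over the source. -/
noncomputable def algEquivB (p : Ideal R) [p.IsPrime] (q : Ideal (p.Fiber S)) [q.IsPrime] :
    letI r := q.comap (includeRight : S →ₐ[R] p.Fiber S)
    letI Sr := Localization.AtPrime r
    letI pS := p.map (algebraMap R S)
    Localization.AtPrime q ≃ₐ[S] Sr ⧸ pS.map (algebraMap S Sr) :=
  letI Sp := Localization (algebraMapSubmonoid S p.primeCompl)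
  letI pS := p.map (algebraMap R S)
  letI SpS := S ⧸ pS
  letI r := q.comap (includeRight : S →ₐ[R] p.Fiber S)
  letI Sr := Localization.AtPrime r
  letI e₁ : p.Fiber S ≃ₐ[S] Sp ⧸ pS.map (algebraMap S Sp) := Ideal.Fiber.algEquivAux₁ p
  letI q' : Ideal (Sp ⧸ pS.map (algebraMap S Sp)) := q.comap e₁.symm
  haveI : (q'.under SpS).LiesOver r := under_liesOver_of_liesOver SpS q' (q.under S)
  haveI : algebraMapSubmonoid SpS r.primeCompl = (q'.under SpS).primeCompl :=
    algebraMapSubmonoid_primeCompl_of_liesOver_surjective (q'.under SpS) r Quotient.mk_surjective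
  haveI : IsLocalization (algebraMapSubmonoid SpS r.primeCompl) (Localization.AtPrime q') := by
    convert IsLocalization.isLocalization_isLocalization_atPrime_isLocalization
      (algebraMapSubmonoid SpS (algebraMapSubmonoid S p.primeCompl)) (Localization.AtPrime q') q'
  ((Localization.localAlgEquiv q' q e₁.symm rfl).symm).trans
    ((IsLocalization.algEquiv (algebraMapSubmonoid SpS r.primeCompl) (Localization.AtPrime q')
      (Sr ⧸ pS.map (algebraMap S Sr))).restrictScalars S)

/-- The local ring of the fibre at `Q` over `q`. -/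
theorem exists_locFibreEquiv (p : Ideal R) [p.IsPrime] (Q : PrimeSpectrum (p.Fiber S))
    (q : PrimeSpectrum S)
    (hq : PrimeSpectrum.comap (Algebra.TensorProduct.includeRight :
      S →ₐ[R] p.Fiber S).toRingHom Q = q) :
    ∃ σ : Localization.AtPrime Q.asIdeal ≃+* EGA4.FibLocRing R S q.asIdeal,
      ∀ b : S, σ (algebraMap (p.Fiber S) (Localization.AtPrime Q.asIdeal) (1 ⊗ₜ b)) =
        algebraMap S (EGA4.FibLocRing R S q.asIdeal) b := by
  subst hq
  letI : Algebra S (p.Fiber S) := Algebra.TensorProduct.rightAlgebra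
  let e := algEquivB p Q.asIdeal
  let e' : (Localization.AtPrime (Ideal.comap (Algebra.TensorProduct.includeRight :
      S →ₐ[R] p.Fiber S) Q.asIdeal) ⧸ (p.map (algebraMap R S)).map (algebraMap S
        (Localization.AtPrime (Ideal.comap (Algebra.TensorProduct.includeRight :
      S →ₐ[R] p.Fiber S) Q.asIdeal)))) ≃+* EGA4.FibLocRing R S
        (Ideal.comap (Algebra.TensorProduct.includeRight : S →ₐ[R] p.Fiber S) Q.asIdeal) :=
    Ideal.quotEquivOfEq (by
      rw [Ega4C.FibreTower.ctr_comap p Q.asIdeal, Ideal.map_map, ← IsScalarTower.algebraMap_eq])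
  refine ⟨e.toRingEquiv.trans e', fun b => ?_⟩
  have h1 : e (algebraMap (p.Fiber S) (Localization.AtPrime Q.asIdeal) (1 ⊗ₜ b)) =
    algebraMap S _ b := e.commutes b
  change e' (e (algebraMap (p.Fiber S) (Localization.AtPrime Q.asIdeal) (1 ⊗ₜ b))) = _
  rw [h1]
  rfl

end Equiv

section Data

variable (A A' B B' : Type u) [CommRing A]
  [CommRing A'] [CommRing B] [CommRing B'] [Algebra A A'] [Algebra A B] [Algebra A' B']
  [Algebra B B'] [Algebra A B'] [IsScalarTower A A' B'] [IsScalarTower A B B']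

/-- The local rings of the fibres at `q` and at `q'` over `q`. -/
theorem exists_fibData [Algebra.IsPushout A A' B B'] [Algebra.FiniteType A B]
    (q' : PrimeSpectrum B') :
    ∃ (K L T : Type u) (_ : Field K) (_ : Field L) (_ : Algebra K L) (_ : CommRing T)
      (_ : Algebra K T) (_ : Algebra.FiniteType K T) (φ : B →+* T)
      (Q : PrimeSpectrum (T ⊗[K] L))
      (σ : Localization.AtPrime (Q.asIdeal.comap (algebraMap T (T ⊗[K] L))) ≃+*
          EGA4.FibLocRing A B (q'.asIdeal.comap (algebraMap B B')))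
      (σ' : Localization.AtPrime Q.asIdeal ≃+* EGA4.FibLocRing A' B' q'.asIdeal),
      (∀ b : B, σ (algebraMap T _ (φ b)) = algebraMap B _ b) ∧
      (∀ b : B, σ' (algebraMap (T ⊗[K] L) _ ((φ b) ⊗ₜ 1)) =
        algebraMap B' _ (algebraMap B B' b)) := by
  let q : PrimeSpectrum B := PrimeSpectrum.comap (algebraMap B B') q'
  let P : Ideal A' := q'.asIdeal.comap (algebraMap A' B')
  let p : Ideal A := P.comap (algebraMap A A')
  haveI : P.LiesOver p := ⟨rfl⟩
  letI := Localization.AtPrime.algebraOfLiesOver p P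
  have hft : Algebra.FiniteType A' B' := Algebra.FiniteType.equiv inferInstance
    (Algebra.IsPushout.equiv A A' B B')
  let k := p.ResidueField
  let e : P.Fiber B' ≃+* (k ⊗[A] B) ⊗[k] P.ResidueField :=
    (FieldPred.fiberEquiv A A' B B' P k).toRingEquiv.trans
      (Algebra.TensorProduct.comm k P.ResidueField (k ⊗[A] B)).toRingEquiv
  let Q' : PrimeSpectrum (P.Fiber B') := FieldPred.fibPt A' B' q'
  have hQ' := FieldPred.comap_fibPt A' B' q'
  let Q : PrimeSpectrum ((k ⊗[A] B) ⊗[k] P.ResidueField) :=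
    PrimeSpectrum.comap (e.symm : (k ⊗[A] B) ⊗[k] P.ResidueField →+* P.Fiber B') Q'
  let Q₀ : PrimeSpectrum (k ⊗[A] B) := PrimeSpectrum.comap
    (algebraMap (k ⊗[A] B) ((k ⊗[A] B) ⊗[k] P.ResidueField)) Q
  have he : ∀ b : B, e.symm (((1 : k) ⊗ₜ[A] b) ⊗ₜ[k] (1 : P.ResidueField)) =
      (1 ⊗ₜ[A'] (algebraMap B B' b)) := by
    intro b
    rw [RingEquiv.symm_apply_eq]
    change _ = Algebra.TensorProduct.comm k P.ResidueField (k ⊗[A] B)
      (FieldPred.fiberEquiv A A' B B' P k (1 ⊗ₜ[A'] (algebraMap B B' b)))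
    rw [FieldPred.fiberEquiv_one_tmul A A' B B' P k b, Algebra.TensorProduct.comm_tmul]
  have hQ₀ : PrimeSpectrum.comap (Algebra.TensorProduct.includeRight :
      B →ₐ[A] k ⊗[A] B).toRingHom Q₀ = q := by
    apply PrimeSpectrum.ext
    ext b
    change e.symm (((1 : k) ⊗ₜ[A] b) ⊗ₜ[k] (1 : P.ResidueField)) ∈ Q'.asIdeal ↔
      algebraMap B B' b ∈ q'.asIdeal
    rw [he]
    exact iff_of_eq (congrArg (fun x : PrimeSpectrum B' => algebraMap B B' b ∈ x.asIdeal) hQ')
  obtain ⟨σ, hσ⟩ := exists_locFibreEquiv p Q₀ q hQ₀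
  obtain ⟨σ', hσ'⟩ := exists_locFibreEquiv P Q' q' hQ'
  let τ : Localization.AtPrime Q.asIdeal ≃+* Localization.AtPrime Q'.asIdeal :=
    Localization.localRingEquiv Q.asIdeal Q'.asIdeal e.symm rfl
  refine ⟨k, P.ResidueField, k ⊗[A] B, inferInstance, inferInstance, inferInstance, inferInstance,
    inferInstance, inferInstance, (Algebra.TensorProduct.includeRight : B →ₐ[A] k ⊗[A] B).toRingHom,
    Q, σ, τ.trans σ', hσ, fun b => ?_⟩
  let z : (k ⊗[A] B) ⊗[k] P.ResidueField := ((1 : k) ⊗ₜ[A] b) ⊗ₜ[k] (1 : P.ResidueField)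
  change σ' (τ (algebraMap _ (Localization.AtPrime Q.asIdeal) z)) = _
  have h1 : τ (algebraMap _ (Localization.AtPrime Q.asIdeal) z) =
      algebraMap _ (Localization.AtPrime Q'.asIdeal) (e.symm z) :=
    Localization.localRingHom_to_map Q.asIdeal Q'.asIdeal
      (e.symm : (k ⊗[A] B) ⊗[k] P.ResidueField →+* P.Fiber B') rfl z
  rw [h1]
  refine Eq.trans (congrArg (fun x => σ' (algebraMap _ (Localization.AtPrime Q'.asIdeal) x)) (he b)) ?_
  exact hσ' _

end Data

section Bc

variable {B : Type u} [CommRing B]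

/-- `(S_k)` of a base change only depends on the algebra. -/
theorem hasSk_iff_of_bc (k : ℕ) {S S' M N N' : Type u} [CommRing S] [CommRing S'] [Algebra B S]
    [Algebra B S'] (σ : S ≃+* S') (hσ : ∀ b : B, σ (algebraMap B S b) = algebraMap B S' b)
    [AddCommGroup M] [Module B M] [AddCommGroup N] [Module B N] [Module S N] [IsScalarTower B S N]
    [AddCommGroup N'] [Module B N'] [Module S' N'] [IsScalarTower B S' N']
    (g : M →ₗ[B] N) (hg : IsBaseChange S g) (g' : M →ₗ[B] N') (hg' : IsBaseChange S' g') :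
    LocCoh.HasSk k S N ↔ LocCoh.HasSk k S' N' := by
  let σ' : S ≃ₐ[B] S' := AlgEquiv.ofRingEquiv (f := σ) hσ
  let e₁ : S ⊗[B] M ≃ₗ[B] S' ⊗[B] M := TensorProduct.congr σ'.toLinearEquiv (LinearEquiv.refl B M)
  have he₁ : ∀ (s : S) (x : S ⊗[B] M), e₁ (s • x) = σ s • e₁ x := by
    intro s x
    induction x using TensorProduct.induction_on with
    | zero => simp
    | tmul t m =>
      rw [TensorProduct.smul_tmul']
      change σ (s * t) ⊗ₜ m = σ s • (σ t ⊗ₜ m)
      rw [map_mul, TensorProduct.smul_tmul', smul_eq_mul]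
    | add x y hx hy => rw [smul_add, map_add, hx, hy, map_add, smul_add]
  have h1 : LocCoh.HasSk k S (S ⊗[B] M) ↔ LocCoh.HasSk k S' (S' ⊗[B] M) :=
    RelSk1.hasSk_iff_of_semilinearEquiv k σ e₁.toAddEquiv he₁
  have h2 : LocCoh.HasSk k S (S ⊗[B] M) ↔ LocCoh.HasSk k S N :=
    RelSk1.hasSk_iff_of_semilinearEquiv k (RingEquiv.refl S) hg.equiv.toAddEquiv
      fun r m => hg.equiv.map_smul r m
  have h3 : LocCoh.HasSk k S' (S' ⊗[B] M) ↔ LocCoh.HasSk k S' N' :=
    RelSk1.hasSk_iff_of_semilinearEquiv k (RingEquiv.refl S') hg'.equiv.toAddEquiv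
      fun r m => hg'.equiv.map_smul r m
  rw [← h2, h1, h3]

/-- `(S_k)` at a prime `Q` of `T` for a base change to `T`. -/
theorem hasSkAt_iff_of_bc (k : ℕ) {T R M N N' : Type u} [CommRing T] [Algebra B T] (Q : Ideal T)
    [Q.IsPrime] [CommRing R] [Algebra B R] (σ : Localization.AtPrime Q ≃+* R)
    (hσ : ∀ b : B, σ (algebraMap T _ (algebraMap B T b)) = algebraMap B R b)
    [AddCommGroup M] [Module B M] [AddCommGroup N] [Module B N] [Module T N] [IsScalarTower B T N]
    [AddCommGroup N'] [Module B N'] [Module R N'] [IsScalarTower B R N']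
    (g : M →ₗ[B] N) (hg : IsBaseChange T g) (g' : M →ₗ[B] N') (hg' : IsBaseChange R g') :
    EGA4.HasSkAt k T N Q ↔ LocCoh.HasSk k R N' := by
  have h1 : IsBaseChange (Localization.AtPrime Q)
      (((LocalizedModule.mkLinearMap Q.primeCompl N).restrictScalars B).comp g) :=
    hg.comp (IsLocalizedModule.isBaseChange Q.primeCompl (Localization.AtPrime Q) _)
  exact hasSk_iff_of_bc k σ hσ _ h1 g' hg'

end Bc

section Sk

variable {A A' B B' : Type u} [CommRing A]
  [CommRing A'] [CommRing B] [CommRing B'] [Algebra A A'] [Algebra A B] [Algebra A' B']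
  [Algebra B B'] [Algebra A B'] [IsScalarTower A A' B'] [IsScalarTower A B B']

/-- `(S_k)` at a prime of an algebra over a field and extension of the field. -/
theorem hasSkAt_tensor_iff (k : ℕ) (K L T : Type u) [Field K] [Field L] [Algebra K L] [CommRing T]
    [Algebra K T] [Algebra.FiniteType K T] (M : Type u) [AddCommGroup M] [Module T M]
    [Module.Finite T M] (Q : PrimeSpectrum (T ⊗[K] L)) :
    EGA4.HasSkAt k T M (Q.asIdeal.comap (algebraMap T (T ⊗[K] L))) ↔
      EGA4.HasSkAt k (T ⊗[K] L) ((T ⊗[K] L) ⊗[T] M) Q.asIdeal := by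
  haveI : IsNoetherianRing T := Algebra.FiniteType.isNoetherianRing K T
  haveI : IsNoetherianRing (L ⊗[K] T) := Algebra.FiniteType.isNoetherianRing L _
  haveI : IsNoetherianRing (T ⊗[K] L) :=
    isNoetherianRing_of_ringEquiv _ (Algebra.TensorProduct.comm K L T).toRingEquiv
  constructor
  · intro h
    refine Ega4A.SkFlat.hasSkAt_tensor k T (T ⊗[K] L) M (T ⊗[K] L) ?_ Q.asIdeal h
    intro q _
    have h2 : LocCoh.HasSk k (EGA4.FibLocRing T (T ⊗[K] L) q) (EGA4.FibLocRing T (T ⊗[K] L) q) :=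
      (Ega43.FibAff.hasSk_iff k ⟨q, inferInstance⟩).mpr fun q' _ _ => by
        haveI := Ega4C.SkFlat.isLocalRing_fibLocRing (B := T) q'.asIdeal
        exact Ega4C.SkField.minLe_of_isCM k
          (Ega4C.SkField.isCM_fibLocRing_tensor K T L (Or.inl inferInstance) q'.asIdeal)
    exact Ega4B.DepthBasic.hasSk_of_equiv k (Ega43.FibAff.fibSelf q).symm h2
  · intro h
    refine Ega4A.SkFlat.hasSkAt_base k T (T ⊗[K] L) M (T ⊗[K] L) Q ?_ h
    rw [Module.mem_support_iff_of_finite]
    intro x hx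
    rw [Module.mem_annihilator] at hx
    have := hx 1
    rw [smul_eq_mul, mul_one] at this
    rw [this]
    exact zero_mem _

/-- **Base change invariance of `(S_k)` for fibre stalks.** -/
theorem hasSk_fib_iff (k : ℕ) [Algebra.IsPushout A A' B B'] [Algebra.FiniteType A B]
    (M : Type u) [AddCommGroup M] [Module B M] [Module.Finite B M]
    (M' : Type u) [AddCommGroup M'] [Module B M'] [Module B' M'] [IsScalarTower B B' M']
    (g : M →ₗ[B] M') (hg : IsBaseChange B' g)
    (q' : PrimeSpectrum B') :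
    LocCoh.HasSk k (EGA4.FibLocRing A B (q'.asIdeal.comap (algebraMap B B')))
        (EGA4.FibLocMod A B (q'.asIdeal.comap (algebraMap B B')) M) ↔
      LocCoh.HasSk k (EGA4.FibLocRing A' B' q'.asIdeal) (EGA4.FibLocMod A' B' q'.asIdeal M') := by
  obtain ⟨K, L, T, _, _, _, _, _, _, φ, Q, σ, σ', hσ, hσ'⟩ := exists_fibData A A' B B' q'
  letI : Algebra B T := φ.toAlgebra
  have h1 := hasSkAt_tensor_iff k K L T (T ⊗[B] M) Q
  have hg₂ : IsBaseChange (T ⊗[K] L)
      (((TensorProduct.mk T (T ⊗[K] L) (T ⊗[B] M) 1).restrictScalars B).comp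
        (TensorProduct.mk B T M 1)) :=
    (TensorProduct.isBaseChange B M T).comp
      (TensorProduct.isBaseChange T (T ⊗[B] M) (T ⊗[K] L))
  have h2 := hasSkAt_iff_of_bc k _ σ (fun b => hσ b) _ (TensorProduct.isBaseChange B M T) _
    (Ega43.FibSpec.isBaseChange_fib A M (q'.asIdeal.comap (algebraMap B B')))
  have h3 := hasSkAt_iff_of_bc k _ σ' (fun b => hσ' b) _ hg₂ _
    (hg.comp (Ega43.FibSpec.isBaseChange_fib A' M' q'.asIdeal))
  exact (h2.symm.trans h1).trans h3

/-- `(S_k)` for the fibre local ring, as a fibre stalk. -/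
theorem hasSk_fibSelf_iff (k : ℕ) (q : Ideal B) [q.IsPrime] :
    LocCoh.HasSk k (EGA4.FibLocRing A B q) (EGA4.FibLocMod A B q B) ↔
      LocCoh.HasSk k (EGA4.FibLocRing A B q) (EGA4.FibLocRing A B q) :=
  ⟨Ega4B.DepthBasic.hasSk_of_equiv k (Ega43.FibAff.fibSelf q),
    Ega4B.DepthBasic.hasSk_of_equiv k (Ega43.FibAff.fibSelf q).symm⟩

/-- `(S_k)` of the local rings of the fibres. -/
theorem hasSk_fibRing_iff (k : ℕ) [Algebra.IsPushout A A' B B'] [Algebra.FiniteType A B]
    (q' : PrimeSpectrum B') :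
    LocCoh.HasSk k (EGA4.FibLocRing A B (q'.asIdeal.comap (algebraMap B B')))
        (EGA4.FibLocRing A B (q'.asIdeal.comap (algebraMap B B'))) ↔
      LocCoh.HasSk k (EGA4.FibLocRing A' B' q'.asIdeal) (EGA4.FibLocRing A' B' q'.asIdeal) := by
  have h := hasSk_fib_iff (A := A) (A' := A') k B B' (Algebra.linearMap B B')
    (IsBaseChange.linearMap B B') q'
  rwa [hasSk_fibSelf_iff, hasSk_fibSelf_iff] at h

/-- The dimension of the local rings of the fibres does not decrease under base change. -/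
theorem ringKrullDim_fib_le [Algebra.IsPushout A A' B B'] [Algebra.FiniteType A B]
    (q' : PrimeSpectrum B') :
    ringKrullDim (EGA4.FibLocRing A B (q'.asIdeal.comap (algebraMap B B'))) ≤
      ringKrullDim (EGA4.FibLocRing A' B' q'.asIdeal) := by
  obtain ⟨K, L, T, _, _, _, _, _, _, φ, Q, σ, σ', hσ, hσ'⟩ := exists_fibData A A' B B' q'
  haveI : IsNoetherianRing T := Algebra.FiniteType.isNoetherianRing K T
  haveI : IsNoetherianRing (L ⊗[K] T) := Algebra.FiniteType.isNoetherianRing L _
  haveI : IsNoetherianRing (T ⊗[K] L) :=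
    isNoetherianRing_of_ringEquiv _ (Algebra.TensorProduct.comm K L T).toRingEquiv
  haveI := Ega4C.SkFlat.isLocalRing_fibLocRing (B := T) Q.asIdeal
  have h := (Ega4C.SkFlat.dim_depth_at (B := T) Q.asIdeal).1
  rw [← ringKrullDim_eq_of_ringEquiv σ, ← ringKrullDim_eq_of_ringEquiv σ', h]
  have h0 : (0 : WithBot ℕ∞) ≤ ringKrullDim (EGA4.FibLocRing T (T ⊗[K] L) Q.asIdeal) :=
    ringKrullDim_nonneg_of_nontrivial
  calc _ = ringKrullDim (Localization.AtPrime (Ideal.comap (algebraMap T (T ⊗[K] L)) Q.asIdeal)) +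
      0 := (add_zero _).symm
    _ ≤ _ := by gcongr

end Sk

end K970.FibBC
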