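import Groth.Agent.QGor.K970.TildeDual
import Groth.Agent.QGor.K970.RelSk2
import Groth.Agent.QGor.K970.FibBC
import Groth.Agent.QGor.K970.InvAt
import Groth.Agent.FormalA.PullbackQC
import Groth.Agent.PerfA.CohSerre
import Groth.Agent.S1392

/-!
# Affine charts over an affine base, and base change

* `exists_chart`: charts `j : Spec C → X` over `Spec A`;
* `exists_lift`: charts of the base change;
* `restrict_pullback_iso`: the restriction of `p^* F` to the chart of the base change;
* `relSkAt_ddual_pullback_iff`: relative `(S_k)` of `(p^* F)^∨∨` in a chart.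
-/

set_option autoImplicit false
set_option linter.style.haveILetI false
universe u

open AlgebraicGeometry CategoryTheory Limits TopologicalSpace RefHull TensorProduct

namespace K970.Chart

open Groth.Agent K970.RelSk1 K970.RelSk2 K970.TildeDual

section Exists

variable {A : Type u} [CommRing A] {X : Scheme.{u}}

/-- Charts over an affine base, inside a given open set. -/
theorem exists_chart (f : X ⟶ Spec (CommRingCat.of A)) [LocallyOfFiniteType f] (x : X)
    (U : X.Opens) (hx : x ∈ U) :
    ∃ (C : Type u) (_ : CommRing C) (_ : Algebra A C) (_ : Algebra.FiniteType A C)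
      (j : Spec (CommRingCat.of C) ⟶ X) (_ : IsOpenImmersion j) (q : Spec (CommRingCat.of C)),
      j ≫ f = Spec.map (CommRingCat.ofHom (algebraMap A C)) ∧ j q = x ∧ j.opensRange ≤ U := by
  obtain ⟨_, ⟨W, hW, rfl⟩, hxW, hWU⟩ :=
    X.isBasis_affineOpens.exists_subset_of_mem_open hx U.isOpen
  haveI : IsOpenImmersion hW.fromSpec := hW.isOpenImmersion_fromSpec
  let φ : CommRingCat.of A ⟶ Γ(X, W) := Spec.preimage (hW.fromSpec ≫ f)
  letI : Algebra A Γ(X, W) := φ.hom.toAlgebra
  have hφ : Spec.map φ = hW.fromSpec ≫ f := Spec.map_preimage _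
  have hft : Algebra.FiniteType A Γ(X, W) := by
    have h1 : LocallyOfFiniteType (Spec.map φ) := by
      rw [hφ]; infer_instance
    exact (HasRingHomProperty.Spec_iff (P := @LocallyOfFiniteType)).mp h1
  have hr : x ∈ hW.fromSpec.opensRange := by
    rw [hW.opensRange_fromSpec]; exact hxW
  obtain ⟨q, hq⟩ := hr
  refine ⟨Γ(X, W), inferInstance, inferInstance, hft, hW.fromSpec, inferInstance, q, hφ.symm, hq, ?_⟩
  rw [hW.opensRange_fromSpec]
  exact hWU

end Exists

section Lift

variable {A B C C' : Type u} [CommRing A] [CommRing B] [CommRing C] [CommRing C'] [Algebra A B]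
  [Algebra A C] [Algebra B C'] [Algebra C C'] [Algebra A C'] [IsScalarTower A B C']
  [IsScalarTower A C C'] [Algebra.IsPushout A B C C']
  {X X' : Scheme.{u}} {f : X ⟶ Spec (CommRingCat.of A)} {f' : X' ⟶ Spec (CommRingCat.of B)}
  {p : X' ⟶ X} {j : Spec (CommRingCat.of C) ⟶ X}

theorem isPullback_Spec : IsPullback (Spec.map (CommRingCat.ofHom (algebraMap C C')))
    (Spec.map (CommRingCat.ofHom (algebraMap B C')))
    (Spec.map (CommRingCat.ofHom (algebraMap A C))) (Spec.map (CommRingCat.ofHom (algebraMap A B))) := by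
  have h : IsPushout (CommRingCat.ofHom (algebraMap A C)) (CommRingCat.ofHom (algebraMap A B))
      (CommRingCat.ofHom (algebraMap C C')) (CommRingCat.ofHom (algebraMap B C')) := by
    haveI : Algebra.IsPushout A C B C' := Algebra.IsPushout.symm inferInstance
    exact CommRingCat.isPushout_of_isPushout A C B C'
  exact (h.op.map Scheme.Spec).flip

/-- The chart of a base change. -/
theorem exists_lift (H : IsPullback p f' f (Spec.map (CommRingCat.ofHom (algebraMap A B))))
    [IsOpenImmersion j] (hj : j ≫ f = Spec.map (CommRingCat.ofHom (algebraMap A C))) :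
    ∃ j' : Spec (CommRingCat.of C') ⟶ X', IsOpenImmersion j' ∧
      j' ≫ f' = Spec.map (CommRingCat.ofHom (algebraMap B C')) ∧
      j' ≫ p = Spec.map (CommRingCat.ofHom (algebraMap C C')) ≫ j ∧
      IsPullback j' (Spec.map (CommRingCat.ofHom (algebraMap C C'))) p j := by
  have h1 := isPullback_Spec (A := A) (B := B) (C := C) (C' := C')
  let j' : Spec (CommRingCat.of C') ⟶ X' := H.lift
    (Spec.map (CommRingCat.ofHom (algebraMap C C')) ≫ j)
    (Spec.map (CommRingCat.ofHom (algebraMap B C'))) (by rw [Category.assoc, hj, h1.w])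
  have e1 : j' ≫ p = Spec.map (CommRingCat.ofHom (algebraMap C C')) ≫ j := H.lift_fst _ _ _
  have e2 : j' ≫ f' = Spec.map (CommRingCat.ofHom (algebraMap B C')) := H.lift_snd _ _ _
  have h2 : IsPullback j' (Spec.map (CommRingCat.ofHom (algebraMap C C'))) p j := by
    refine IsPullback.of_right (h₁₂ := f') (h₂₂ := f) (v₁₃ := Spec.map (CommRingCat.ofHom (algebraMap A B))) ?_ e1 H.flip
    rw [e2, hj]
    exact h1.flip
  refine ⟨j', ?_, e2, e1, h2⟩
  exact MorphismProperty.of_isPullback (P := @IsOpenImmersion) h2.flip inferInstance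

end Lift

section Modules

variable {A B C C' : Type u} [CommRing A] [CommRing B] [CommRing C] [CommRing C'] [Algebra A B]
  [Algebra A C] [Algebra B C'] [Algebra C C'] [Algebra A C'] [IsScalarTower A B C']
  [IsScalarTower A C C']
  {X X' : Scheme.{u}} {f : X ⟶ Spec (CommRingCat.of A)} {f' : X' ⟶ Spec (CommRingCat.of B)}
  {p : X' ⟶ X} {j : Spec (CommRingCat.of C) ⟶ X}

/-- Coherent modules in a chart. -/
theorem exists_restrict_iso (j : Spec (CommRingCat.of C) ⟶ X) [IsOpenImmersion j] (F : X.Modules)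
    (hF : Coh.IsCoh F) :
    ∃ (M : Type u) (_ : AddCommGroup M) (_ : Module C M), Module.Finite C M ∧
      Nonempty (F.restrict j ≅ tilde (R := CommRingCat.of C) (ModuleCat.of C M)) := by
  obtain ⟨M, h, e⟩ := exists_tilde_iso_of_isCoh (R := CommRingCat.of C) _
    (PerfA.CohSerre.isCoh_restrict j hF)
  exact ⟨M, inferInstance, inferInstance, h, e⟩

/-- The restriction of a pullback to a chart. -/
theorem nonempty_restrict_pullback_iso [IsOpenImmersion j] (j' : Spec (CommRingCat.of C') ⟶ X')
    [IsOpenImmersion j'] (h : j' ≫ p = Spec.map (CommRingCat.ofHom (algebraMap C C')) ≫ j)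
    (F : X.Modules) (M : Type u) [AddCommGroup M] [Module C M]
    (e : F.restrict j ≅ tilde (R := CommRingCat.of C) (ModuleCat.of C M)) :
    Nonempty (((Scheme.Modules.pullback p).obj F).restrict j' ≅
      tilde (R := CommRingCat.of C') (ModuleCat.of C' (C' ⊗[C] M))) :=
  ⟨FormalA.PullbackQC.restrictPullbackIso' p j' j _ h F ≪≫
    (Scheme.Modules.pullback _).mapIso e ≪≫ Ega1.TildePullback.pullbackTildeIso C C' M⟩

/-- The restriction of a double dual to a chart. -/
theorem nonempty_restrict_ddual_iso [IsNoetherianRing C] [IsOpenImmersion j]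
    (F : X.Modules) (M : Type u) [AddCommGroup M] [Module C M] [Module.Finite C M]
    (e : F.restrict j ≅ tilde (R := CommRingCat.of C) (ModuleCat.of C M)) :
    Nonempty ((ddual F).restrict j ≅
      tilde (R := CommRingCat.of C) (ModuleCat.of C (Module.Dual C (Module.Dual C M)))) := by
  haveI : Module.Finite (CommRingCat.of C) (ModuleCat.of C M) := ‹_›
  haveI : IsNoetherianRing (CommRingCat.of C) := ‹_›
  obtain ⟨e'⟩ := nonempty_ddual_tilde_iso (R := CommRingCat.of C) (ModuleCat.of C M)
  exact ⟨K476.HomSh5.restrictDDual j F ≪≫ K476.HomSh1.ddualIso e ≪≫ e'⟩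

open Groth.Agent.Flat2D.FiberStalk in
/-- `(S_k)` of the fibre stalk, in a chart. -/
theorem skFib_chart_iff [IsOpenImmersion j]
    (hj : j ≫ f = Spec.map (CommRingCat.ofHom (algebraMap A C)))
    (F : X.Modules) (M : Type u) [AddCommGroup M] [Module C M]
    (eF : F.restrict j ≅ tilde (R := CommRingCat.of C) (ModuleCat.of C M))
    (k : ℕ) (q : PrimeSpectrum C) (x : Spec (CommRingCat.of C)) (hx : x = q) :
    LocCoh.HasSk k (FibRingStalk f (j x)) (FibStalk f F (j x)) ↔
      LocCoh.HasSk k (EGA4.FibLocRing A C q.asIdeal) (EGA4.FibLocMod A C q.asIdeal M) := by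
  obtain ⟨σ, e, hσ, he⟩ := exists_stalk_equiv M q x hx
  have h1 : LocCoh.HasSk k (FibRingStalk f (j x)) (FibStalk f F (j x)) ↔
      LocCoh.HasSk k (FibRingStalk (j ≫ f) x) (FibStalk (j ≫ f) (F.restrict j) x) := by
    have h := fibreIdeal_map_stalkMap f j x
    refine (hasSk_quot_iff k (asIso (j.stalkMap x)).commRingCatIsoToRingEquiv
      (Ega3B.FlatRestrict.stalkEquiv j F x).symm ?_ _ _ h)
    intro r m
    apply (Ega3B.FlatRestrict.stalkEquiv j F x).injective
    rw [AddEquiv.apply_symm_apply]
    refine Eq.trans ?_ (Ega3B.FlatRestrict.stalkEquiv_smul j F x r _).symm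
    rw [AddEquiv.apply_symm_apply]
  rw [h1, hj]
  have h2 : LocCoh.HasSk k
      (FibRingStalk (Spec.map (CommRingCat.ofHom (algebraMap A C))) x)
      (FibStalk (Spec.map (CommRingCat.ofHom (algebraMap A C))) (F.restrict j) x) ↔
      LocCoh.HasSk k (FibRingStalk (Spec.map (CommRingCat.ofHom (algebraMap A C))) x)
      (FibStalk (Spec.map (CommRingCat.ofHom (algebraMap A C)))
        (tilde (R := CommRingCat.of C) (ModuleCat.of C M)) x) := by
    let ε := Fdesc.Skyscraper.stalkIso eF x
    exact hasSk_quot_iff k (RingEquiv.refl _) ε.toAddEquiv (fun r m => ε.map_smul r m) _ _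
      (by exact Ideal.map_id _)
  rw [h2]
  refine (hasSk_quot_iff k σ e he _ _ ?_).symm
  rw [fibreIdeal_chart x q hx, Ideal.map_map]
  congr 1
  ext a
  change σ (algebraMap A (Localization.AtPrime q.asIdeal) a) = _
  rw [IsScalarTower.algebraMap_apply A C (Localization.AtPrime q.asIdeal), hσ]
  rfl

end Modules

section BaseChange

variable {A B : Type u} [CommRing A] [CommRing B] [Algebra A B]
  {X X' : Scheme.{u}} {f : X ⟶ Spec (CommRingCat.of A)} {f' : X' ⟶ Spec (CommRingCat.of B)}
  {p : X' ⟶ X}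

/-- A chart of `X` and of the base change `X'`, around a point of `X'`. -/
theorem exists_charts [LocallyOfFiniteType f]
    (H : IsPullback p f' f (Spec.map (CommRingCat.ofHom (algebraMap A B)))) (x' : X') (U : X.Opens)
    (hx : p x' ∈ U) :
    ∃ (C : Type u) (_ : CommRing C) (_ : Algebra A C) (_ : Algebra.FiniteType A C)
      (j : Spec (CommRingCat.of C) ⟶ X) (_ : IsOpenImmersion j)
      (j' : Spec (CommRingCat.of (C ⊗[A] B)) ⟶ X') (_ : IsOpenImmersion j')
      (q' : Spec (CommRingCat.of (C ⊗[A] B))),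
      letI : Algebra B (C ⊗[A] B) := Algebra.TensorProduct.rightAlgebra
      j ≫ f = Spec.map (CommRingCat.ofHom (algebraMap A C)) ∧
      j' ≫ f' = Spec.map (CommRingCat.ofHom (algebraMap B (C ⊗[A] B))) ∧
      j' ≫ p = Spec.map (CommRingCat.ofHom (algebraMap C (C ⊗[A] B))) ≫ j ∧
      j' q' = x' ∧ j.opensRange ≤ U := by
  obtain ⟨C, _, _, hft, j, _, q, hj, hq, hU⟩ := exists_chart f (p x') U hx
  letI : Algebra B (C ⊗[A] B) := Algebra.TensorProduct.rightAlgebra
  obtain ⟨j', hj', h1, h2, h3⟩ := exists_lift (C := C) (C' := C ⊗[A] B) H hj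
  obtain ⟨q', hq', -⟩ := Scheme.exists_preimage_of_isPullback h3 x' q hq.symm
  exact ⟨C, inferInstance, inferInstance, hft, j, inferInstance, j', hj', q', hj, h1, h2, hq', hU⟩

/-- `(S_k)` of the fibre stalks is invariant under base change. -/
theorem skFib_pullback_iff [LocallyOfFiniteType f]
    (H : IsPullback p f' f (Spec.map (CommRingCat.ofHom (algebraMap A B)))) (F : X.Modules)
    (hF : Coh.IsCoh F) (k : ℕ) (x' : X') :
    LocCoh.HasSk k (FibRingStalk f (p x')) (FibStalk f F (p x')) ↔
      LocCoh.HasSk k (FibRingStalk f' x') (FibStalk f' ((Scheme.Modules.pullback p).obj F) x') := by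
  obtain ⟨C, _, _, hft, j, _, j', _, q', hj, hj', hp, hq', -⟩ := exists_charts H x' ⊤ trivial
  letI : Algebra B (C ⊗[A] B) := Algebra.TensorProduct.rightAlgebra
  haveI : Algebra.IsPushout A C B (C ⊗[A] B) := TensorProduct.isPushout
  haveI : Algebra.IsPushout A B C (C ⊗[A] B) := Algebra.IsPushout.symm inferInstance
  obtain ⟨M, _, _, _, ⟨eF⟩⟩ := exists_restrict_iso j F hF
  obtain ⟨eF'⟩ := nonempty_restrict_pullback_iso j' hp F M eF
  subst hq'
  have h1 := skFib_chart_iff hj' ((Scheme.Modules.pullback p).obj F) _ eF' k q' q' rfl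
  rw [h1]
  have hx : p (j' q') = j (Spec.map (CommRingCat.ofHom (algebraMap C (C ⊗[A] B))) q') := by
    have := congrArg (fun g => g q') hp
    simpa using this
  have h2 := skFib_chart_iff hj F M eF k
    (PrimeSpectrum.comap (algebraMap C (C ⊗[A] B)) q')
    (Spec.map (CommRingCat.ofHom (algebraMap C (C ⊗[A] B))) q') rfl
  have key : ∀ x : X, x = p (j' q') → (LocCoh.HasSk k (FibRingStalk f x) (FibStalk f F x) ↔
      LocCoh.HasSk k (FibRingStalk f (p (j' q'))) (FibStalk f F (p (j' q')))) := by
    rintro _ rfl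
    exact Iff.rfl
  rw [← key _ hx.symm, h2]
  exact FibBC.hasSk_fib_iff k M ((C ⊗[A] B) ⊗[C] M) (TensorProduct.mk C (C ⊗[A] B) M 1)
    (TensorProduct.isBaseChange C M (C ⊗[A] B)) q'

/-- Relative `(S_k)` is stable under base change. -/
theorem relSkAt_pullback [LocallyOfFiniteType f]
    (H : IsPullback p f' f (Spec.map (CommRingCat.ofHom (algebraMap A B)))) (F : X.Modules)
    (hF : Coh.IsCoh F) (k : ℕ) (x' : X') (h : RelCanon.RelSkAt f k F (p x')) :
    RelCanon.RelSkAt f' k ((Scheme.Modules.pullback p).obj F) x' := by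
  rw [relSkAt_iff] at h ⊢
  exact ⟨Fdesc.FlatBC.isFlatOverAt_pullback H F x' h.1, (skFib_pullback_iff H F hF k x').mp h.2⟩

/-- Relative `(S_k)` descends along base changes which are flat at the point. -/
theorem relSkAt_of_pullback [LocallyOfFiniteType f]
    (H : IsPullback p f' f (Spec.map (CommRingCat.ofHom (algebraMap A B)))) (F : X.Modules)
    (hF : Coh.IsCoh F) (k : ℕ) (x' : X')
    (hg : ((Spec.map (CommRingCat.ofHom (algebraMap A B))).stalkMap (f' x')).hom.Flat)
    (h : RelCanon.RelSkAt f' k ((Scheme.Modules.pullback p).obj F) x') :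
    RelCanon.RelSkAt f k F (p x') := by
  rw [relSkAt_iff] at h ⊢
  exact ⟨S1392.result f f' p _ H F hF.1 x' hg h.1, (skFib_pullback_iff H F hF k x').mpr h.2⟩

end BaseChange

end K970.Chart
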