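import Groth.Agent.QGor.K66.StalkOff
import Groth.Agent.QGor.K66.Fibre
import Groth.Agent.QGor.K970.InvAt

/-!
# Full support from invertibility off fibre codimension one
-/

set_option autoImplicit false
universe u
open CategoryTheory CategoryTheory.Limits AlgebraicGeometry TopologicalSpace

namespace K970.FullSupp

open Groth.Agent K66.StalkOff

/-- Every point of a scheme has a generization whose local ring has dimension zero. -/
theorem exists_generic {Z : Scheme.{u}} (z : Z) :
    ∃ ξ : Z, ξ ⤳ z ∧ ringKrullDim (Z.presheaf.stalk ξ) = 0 := by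
  have hirr : IsIrreducible (irreducibleComponent z) := isIrreducible_irreducibleComponent
  have hcl : IsClosed (irreducibleComponent z) := isClosed_irreducibleComponent
  obtain ⟨ξ, hξ⟩ := QuasiSober.sober hirr hcl
  have h1 : ξ ⤳ z := by
    rw [specializes_iff_mem_closure]
    have : closure ({ξ} : Set Z) = irreducibleComponent z := hξ
    rw [this]
    exact mem_irreducibleComponent
  refine ⟨ξ, h1, ?_⟩
  rw [ringKrullDim_stalk_eq_coheight]
  have h2 : IsMax ξ := by
    intro η hη
    have hη' : η ⤳ ξ := hη
    have h3 : irreducibleComponent z ⊆ closure {η} := by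
      have : closure ({ξ} : Set Z) = irreducibleComponent z := hξ
      rw [← this]
      exact hη'.closure_subset
    have h4 : closure ({η} : Set Z) = irreducibleComponent z :=
      (irreducibleComponent_property z).2.2 _ isIrreducible_singleton.closure.isPreirreducible h3
    have h5 : ξ ⤳ η := by
      rw [specializes_iff_closure_subset, h4]
      have : closure ({ξ} : Set Z) = irreducibleComponent z := hξ
      rw [this]
    exact h5
  rw [Order.coheight_eq_zero.mpr h2]
  rfl

/-- A module whose stalks are nonzero off fibre codimension one has nonzero stalks. -/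
theorem nontrivial_stalk {X S : Scheme.{u}} (f : X ⟶ S) {F : X.Modules} (hF : Coh.IsQCoh F)
    (U : X.Opens) (hU : ∀ x ∈ U, Nontrivial (F.presheaf.stalk x))
    (hcod : ∀ x : X, x ∉ U →
      (1 : WithBot ℕ∞) ≤ ringKrullDim ((f.fiber (f x)).presheaf.stalk (f.asFiber x))) (x : X) :
    Nontrivial (F.presheaf.stalk x) := by
  obtain ⟨ξ, hξ, hd⟩ := exists_generic (f.asFiber x)
  have hs : (f.fiberι (f x)) ξ ⤳ x := by
    have := hξ.map (f.fiberι (f x)).continuous
    rwa [f.fiberι_asFiber] at this
  have hU' : (f.fiberι (f x)) ξ ∈ U := by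
    by_contra hcon
    have h1 := hcod _ hcon
    rw [K66.Fibre.ringKrullDim_fiber, hd] at h1
    exact absurd h1 (by decide)
  have h2 := hU _ hU'
  by_contra hcon
  rw [not_nontrivial_iff_subsingleton] at hcon
  obtain ⟨σ, e, -, -, -⟩ := exists_loc_equiv F hF hs
  have h3 : Subsingleton (LocalizedModule (CycB.LocQuot.primeOf hs).asIdeal.primeCompl
      (F.presheaf.stalk x)) := inferInstance
  exact not_subsingleton _ (e.symm.injective.subsingleton)

end K970.FullSupp
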