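import Groth.Agent.QGor.K970.RefBC

/-!
# Base change and descent of the ℚ-Gorenstein conditions

* `isQGorWith_baseChange`, `nonempty_iso_of_invertible`, `isQGorMorWith_baseChange`: base change;
* `nonempty_pullback_refPowZ_of_flat`: `p^* ω^{[m]} ≅ ω'^{[m]}` for a flat base change;
* `isQGorWith_of_baseChange`, `isQGorMorWith_of_baseChange`: descent along flat surjective base change.
-/

set_option autoImplicit false
universe u
open CategoryTheory CategoryTheory.Limits AlgebraicGeometry TopologicalSpace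

namespace K970.QGorBC

open Groth.Agent K970.RelSk1

variable (A : Type u) [CommRing A] [IsNoetherianRing A] (Y : Scheme.{u})
  [Y.Over (Spec (CommRingCat.of A))] [IsProper (Y ↘ Spec (CommRingCat.of A))] (d : ℕ)
  (hS : RelCanon.IsSkMor (Y ↘ Spec (CommRingCat.of A)) 2)
  (hd : Cyc.HasRelDim (Y ↘ Spec (CommRingCat.of A)) d)
  (ω : Y.Modules) (hω : RelCanon.IsDualizingSheaf A Y d ω)
  (B : Type u) [CommRing B] [IsNoetherianRing B] (φ : A →+* B)
  (Y' : Scheme.{u}) [Y'.Over (Spec (CommRingCat.of B))] (p : Y' ⟶ Y)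
  (hp : IsPullback p (Y' ↘ Spec (CommRingCat.of B)) (Y ↘ Spec (CommRingCat.of A))
    (Spec.map (CommRingCat.ofHom φ)))
  (ω' : Y'.Modules) (hω' : RelCanon.IsDualizingSheaf B Y' d ω')

section BC

variable (hG : ∀ y : Y, y ∉ RelCanon.gorLocus (Y ↘ Spec (CommRingCat.of A)) →
      (2 : WithBot ℕ∞) ≤ ringKrullDim (((Y ↘ Spec (CommRingCat.of A)).fiber
        ((Y ↘ Spec (CommRingCat.of A)) y)).presheaf.stalk ((Y ↘ Spec (CommRingCat.of A)).asFiber y)))

include hS hd hω hG hp hω'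

/-- Invertibility of `ω^{[m]}` at `p y'` gives invertibility of `ω'^{[m]}` at `y'`. -/
theorem invertibleAt_of_invertibleAt (m : ℤ) (y' : Y')
    (h : RelCanon.InvertibleAt (RelCanon.refPowZ ω m) (p y')) :
    RelCanon.InvertibleAt (RelCanon.refPowZ ω' m) y' := by
  obtain ⟨e⟩ := RefBC.nonempty_ddual_pullback A Y d hS hd ω hω hG B φ Y' p hp ω' hω' m
  exact InvAt.invertibleAt_of_iso e y'
    (InvAt.invertibleAt_ddual y' (InvAt.invertibleAt_pullback p _ y' h))

theorem isQGorWithAt_of_isQGorWithAt (y' : Y') (h : RelCanon.IsQGorWithAt ω (p y')) :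
    RelCanon.IsQGorWithAt ω' y' := by
  obtain ⟨r, hr, h⟩ := h
  exact ⟨r, hr, invertibleAt_of_invertibleAt A Y d hS hd ω hω B φ Y' p hp ω' hω' hG r y' h⟩

theorem isQGorWith_baseChange (h : RelCanon.IsQGorWith ω) : RelCanon.IsQGorWith ω' := fun y' =>
  isQGorWithAt_of_isQGorWithAt A Y d hS hd ω hω B φ Y' p hp ω' hω' hG y' (h (p y'))

theorem nonempty_iso_of_invertible (m : ℤ) (h : PicF.IsInvertible (RelCanon.refPowZ ω m)) :
    Nonempty (RelCanon.refPowZ ω' m ≅ (Scheme.Modules.pullback p).obj (RelCanon.refPowZ ω m)) := by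
  obtain ⟨e⟩ := RefBC.nonempty_ddual_pullback A Y d hS hd ω hω hG B φ Y' p hp ω' hω' m
  have h' : PicF.IsInvertible ((Scheme.Modules.pullback p).obj (RelCanon.refPowZ ω m)) :=
    fun y' => InvAt.invertibleAt_pullback p _ y' (h (p y'))
  obtain ⟨e1⟩ := K66.RefZ.nonempty_ddual_iso h'
  exact ⟨e.symm ≪≫ e1⟩

theorem relSkAt_of_relSk (m : ℤ)
    (h : RelCanon.RelSk (Y ↘ Spec (CommRingCat.of A)) 2 (RelCanon.refPowZ ω m)) :
    RelCanon.RelSk (Y' ↘ Spec (CommRingCat.of B)) 2 (RelCanon.refPowZ ω' m) := by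
  have hNA : IsNoetherianRing (CommRingCat.of A) := inferInstanceAs (IsNoetherianRing A)
  have hlN : IsLocallyNoetherian Y :=
    LocallyOfFiniteType.isLocallyNoetherian (Y ↘ Spec (CommRingCat.of A))
  obtain ⟨e⟩ := RefBC.nonempty_pullback_of_relSk A Y d hS hd ω hω hG B φ Y' p hp ω' hω' m h
  have hc : Coh.IsCoh (RelCanon.refPowZ ω m) :=
    RefPow.isCoh_refPowZ (K967.OmegaBasic.isCoh A Y d ω hω (K967.ReflUnit.dim_fiber_le hd)) m
  intro y'
  exact relSkAt_of_iso _ 2 e y' (K970.BCHyp.relSkAt_pullback_cat _ hp _ hc 2 y' (h (p y')))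

end BC

section Fibres

include hS hd hp hω'

/-- The fibres of the base change are ℚ-Gorenstein if those of `Y` are. -/
theorem isQGorWith_fibres
    (hG : ∀ y : Y, y ∉ RelCanon.gorLocus (Y ↘ Spec (CommRingCat.of A)) →
      (2 : WithBot ℕ∞) ≤ ringKrullDim (((Y ↘ Spec (CommRingCat.of A)).fiber
        ((Y ↘ Spec (CommRingCat.of A)) y)).presheaf.stalk ((Y ↘ Spec (CommRingCat.of A)).asFiber y)))
    (h : ∀ (t : (Spec (CommRingCat.of A))) (ωt : ((Y ↘ Spec (CommRingCat.of A)).fiber t).Modules),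
      @RelCanon.IsDualizingSheaf ((Spec (CommRingCat.of A)).residueField t) _
        ((Y ↘ Spec (CommRingCat.of A)).fiber t)
        ⟨(Y ↘ Spec (CommRingCat.of A)).fiberToSpecResidueField t⟩ d ωt → RelCanon.IsQGorWith ωt)
    (t' : Spec (CommRingCat.of B)) (ωt' : ((Y' ↘ Spec (CommRingCat.of B)).fiber t').Modules)
    (hωt' : @RelCanon.IsDualizingSheaf ((Spec (CommRingCat.of B)).residueField t') _
      ((Y' ↘ Spec (CommRingCat.of B)).fiber t')
      ⟨(Y' ↘ Spec (CommRingCat.of B)).fiberToSpecResidueField t'⟩ d ωt') :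
    RelCanon.IsQGorWith ωt' := by
  obtain ⟨ψ, r, hr, -⟩ := K970.BCHyp.exists_fibre_fibre (CommRingCat.ofHom φ) hp t'
  let t : Spec (CommRingCat.of A) := Spec.map (CommRingCat.ofHom φ) t'
  let κ : Type u := (Spec (CommRingCat.of A)).residueField t
  let κ' : Type u := (Spec (CommRingCat.of B)).residueField t'
  let Z := (Y ↘ Spec (CommRingCat.of A)).fiber t
  let Z' := (Y' ↘ Spec (CommRingCat.of B)).fiber t'
  letI i1 : Z.Over (Spec (CommRingCat.of κ)) :=
    ⟨(Y ↘ Spec (CommRingCat.of A)).fiberToSpecResidueField t⟩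
  letI i2 : Z'.Over (Spec (CommRingCat.of κ')) :=
    ⟨(Y' ↘ Spec (CommRingCat.of B)).fiberToSpecResidueField t'⟩
  obtain ⟨h1, h2, h3, h4⟩ := K970.BCHyp.fibre_hyps t hS hd 2 hG
  have h1' : IsProper (Z ↘ Spec (CommRingCat.of κ)) := h1
  obtain ⟨ωt, hωt⟩ := K967.OmegaBasic.exists_isDualizingSheaf κ Z d (K967.ReflUnit.dim_fiber_le h3)
  exact isQGorWith_baseChange κ Z d h2 h3 ωt hωt κ' ψ.hom Z' r hr ωt' hωt' h4 (h t ωt hωt)

end Fibres

section Flat

variable [Flat (Y ↘ Spec (CommRingCat.of A))] [Flat (Spec.map (CommRingCat.ofHom φ))]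

include hd hω hp hω'

/-- Flat base change of the reflexive powers of `ω`. -/
theorem nonempty_pullback_refPowZ_of_flat (m : ℤ) :
    Nonempty ((Scheme.Modules.pullback p).obj (RelCanon.refPowZ ω m) ≅ RelCanon.refPowZ ω' m) := by
  have hNA : IsNoetherianRing (CommRingCat.of A) := inferInstanceAs (IsNoetherianRing A)
  have hlN : IsLocallyNoetherian Y :=
    LocallyOfFiniteType.isLocallyNoetherian (Y ↘ Spec (CommRingCat.of A))
  have hpf : Flat p := MorphismProperty.of_isPullback hp.flip inferInstance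
  have hφ : φ.Flat := Flat.SpecMap_iff.mp ‹Flat (Spec.map (CommRingCat.ofHom φ))›
  have h1 := K968.Compare2.isDualizingSheaf_pullback A d hd B φ p hp hφ hω
  obtain ⟨e1⟩ := K968.Compare1.iso_of_isDualizingSheaf h1 hω'
  obtain ⟨e2⟩ := RefPow.nonempty_pullback_refPowZ p
    (K967.OmegaBasic.isCoh A Y d ω hω (K967.ReflUnit.dim_fiber_le hd)) m
  exact ⟨e2 ≪≫ RefPow.refPowZIso e1 m⟩

theorem invertibleAt_iff_of_flat (m : ℤ) (y' : Y') :
    RelCanon.InvertibleAt (RelCanon.refPowZ ω' m) y' ↔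
      RelCanon.InvertibleAt (RelCanon.refPowZ ω m) (p y') := by
  have hNA : IsNoetherianRing (CommRingCat.of A) := inferInstanceAs (IsNoetherianRing A)
  have hNB : IsNoetherianRing (CommRingCat.of B) := inferInstanceAs (IsNoetherianRing B)
  have hpr : IsProper (Y' ↘ Spec (CommRingCat.of B)) := MorphismProperty.of_isPullback hp inferInstance
  have hlN : IsLocallyNoetherian Y :=
    LocallyOfFiniteType.isLocallyNoetherian (Y ↘ Spec (CommRingCat.of A))
  have hlN' : IsLocallyNoetherian Y' :=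
    LocallyOfFiniteType.isLocallyNoetherian (Y' ↘ Spec (CommRingCat.of B))
  have hpf : Flat p := MorphismProperty.of_isPullback hp.flip inferInstance
  obtain ⟨e⟩ := nonempty_pullback_refPowZ_of_flat A Y d hd ω hω B φ Y' p hp ω' hω' m
  have hc : Coh.IsCoh (RelCanon.refPowZ ω m) :=
    RefPow.isCoh_refPowZ (K967.OmegaBasic.isCoh A Y d ω hω (K967.ReflUnit.dim_fiber_le hd)) m
  rw [← InvAt.invertibleAt_iff_of_iso e, InvAt.invertibleAt_pullback_iff_of_flat p hc]

theorem relSkAt_iff_of_flat (k : ℕ) (m : ℤ) (y' : Y') :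
    RelCanon.RelSkAt (Y' ↘ Spec (CommRingCat.of B)) k (RelCanon.refPowZ ω' m) y' ↔
      RelCanon.RelSkAt (Y ↘ Spec (CommRingCat.of A)) k (RelCanon.refPowZ ω m) (p y') := by
  have hNA : IsNoetherianRing (CommRingCat.of A) := inferInstanceAs (IsNoetherianRing A)
  have hlN : IsLocallyNoetherian Y :=
    LocallyOfFiniteType.isLocallyNoetherian (Y ↘ Spec (CommRingCat.of A))
  obtain ⟨e⟩ := nonempty_pullback_refPowZ_of_flat A Y d hd ω hω B φ Y' p hp ω' hω' m
  have hc : Coh.IsCoh (RelCanon.refPowZ ω m) :=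
    RefPow.isCoh_refPowZ (K967.OmegaBasic.isCoh A Y d ω hω (K967.ReflUnit.dim_fiber_le hd)) m
  rw [← relSkAt_iff_of_iso _ k e y']
  exact ⟨K970.BCHyp.relSkAt_of_pullback_cat _ hp _ hc k y' (Flat.stalkMap _ _),
    K970.BCHyp.relSkAt_pullback_cat _ hp _ hc k y'⟩

end Flat

end K970.QGorBC
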