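import Groth.Agent.QGor.K967.BCOmega
import Groth.Agent.QGor.K967.HomUnit
import Groth.Agent.QGor.K970.RefPow
import Groth.Agent.QGor.K970.FullSupp
import Groth.Agent.QGor.K66.RefZ

/-!
# Base change of the reflexive powers of the relative canonical sheaf

For `f : Y → Spec A` a proper `S_2`-morphism of pure relative dimension `d`, Gorenstein in fibre
codimension one, `ω` and `ω'` dualizing sheaves of `Y` and of a base change `Y'`:
* `nonempty_restrict_iso`: `(p^* ω^{[m]})|U' ≅ ω'^{[m]}|U'` over `U' = p⁻¹ (gorLocus)`;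
* `nonempty_ddual_pullback`: `(p^* ω^{[m]})^** ≅ ω'^{[m]}`;
* `nonempty_pullback_of_relSk`: `p^* ω^{[m]} ≅ ω'^{[m]}` if `ω^{[m]}` is relatively `S_2`.
-/

set_option autoImplicit false
universe u
open CategoryTheory CategoryTheory.Limits AlgebraicGeometry TopologicalSpace

namespace K970.RefBC

open Groth.Agent K970.RelSk1

/-- Reflexive powers commute with pullback over an open where the module is invertible. -/
theorem nonempty_restrict_refPowZ_pullback {X Y : Scheme.{u}} (p : Y ⟶ X) (F : X.Modules) (U : X.Opens)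
    (hF : ∀ x ∈ U, RelCanon.InvertibleAt F x) (m : ℤ) :
    Nonempty (((Scheme.Modules.pullback p).obj (RelCanon.refPowZ F m)).restrict (p ⁻¹ᵁ U).ι ≅
      RelCanon.refPowZ (((Scheme.Modules.pullback p).obj F).restrict (p ⁻¹ᵁ U).ι) m) := by
  have hL : PicF.IsInvertible (F.restrict U.ι) :=
    (InvAt.isInvertible_restrict_iff U.ι F).mpr fun x => hF _ x.2
  obtain ⟨e2⟩ := K66.RefZ.nonempty_refPowZ_restrict U.ι F m
  obtain ⟨e3⟩ := K66.RefZ.nonempty_refPowZ_pullback (p ∣_ U) hL m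
  obtain ⟨e4⟩ := K66.RefZ.nonempty_refPowZ_congr ((FormalB.PullCoh.restrictPullbackIso p U).app F) m
  exact ⟨(FormalB.PullCoh.restrictPullbackIso p U).symm.app (RelCanon.refPowZ F m) ≪≫
    (Scheme.Modules.pullback (p ∣_ U)).mapIso e2 ≪≫ e3 ≪≫ e4⟩

section Main

variable (A : Type u) [CommRing A] [IsNoetherianRing A] (Y : Scheme.{u})
  [Y.Over (Spec (CommRingCat.of A))] [IsProper (Y ↘ Spec (CommRingCat.of A))] (d : ℕ)
  (hS : RelCanon.IsSkMor (Y ↘ Spec (CommRingCat.of A)) 2)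
  (hd : Cyc.HasRelDim (Y ↘ Spec (CommRingCat.of A)) d)
  (ω : Y.Modules) (hω : RelCanon.IsDualizingSheaf A Y d ω)

/-- The Gorenstein locus as an open. -/
noncomputable def gorOpen {X : Scheme.{u}} {R : Type u} [CommRing R] [IsNoetherianRing R]
    (f : X ⟶ Spec (CommRingCat.of R)) [Flat f] [LocallyOfFiniteType f] : X.Opens :=
  ⟨RelCanon.gorLocus f,
    have : LocallyOfFinitePresentation f := K968.Compare2.lofp f
    Dual.H321.GorOpen.isOpen_isGorensteinAt f⟩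

section BC

variable (B : Type u) [CommRing B] [IsNoetherianRing B]
  {g : Spec (CommRingCat.of B) ⟶ Spec (CommRingCat.of A)}
  (Y' : Scheme.{u}) [Y'.Over (Spec (CommRingCat.of B))] (p : Y' ⟶ Y)
  (hp : IsPullback p (Y' ↘ Spec (CommRingCat.of B)) (Y ↘ Spec (CommRingCat.of A)) g)
  (ω' : Y'.Modules) (hω' : RelCanon.IsDualizingSheaf B Y' d ω')

include hd hω hp hω'

/-- `(p^* ω^{[m]})|U' ≅ ω'^{[m]}|U'` for an open `U` of the Gorenstein locus. -/
theorem nonempty_restrict_iso [Flat (Y ↘ Spec (CommRingCat.of A))] (U : Y.Opens)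
    (hU : ∀ y ∈ U, y ∈ RelCanon.gorLocus (Y ↘ Spec (CommRingCat.of A))) (m : ℤ) :
    Nonempty (((Scheme.Modules.pullback p).obj (RelCanon.refPowZ ω m)).restrict (p ⁻¹ᵁ U).ι ≅
      (RelCanon.refPowZ ω' m).restrict (p ⁻¹ᵁ U).ι) := by
  obtain ⟨e1⟩ := nonempty_restrict_refPowZ_pullback p ω U
    (fun y hy => K967.OmegaBasic.invertibleAt A Y d hd ω hω y (hU y hy)) m
  obtain ⟨e⟩ := K968.Compare4.nonempty_restrict_iso A hd hω B hp hω' (j := U.ι) (j' := (p ⁻¹ᵁ U).ι)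
    (pV := p ∣_ U) (isPullback_morphismRestrict p U)
    (fun x => Dual.H373.Core.isCMAt_of_isGorensteinAt _ _ (hU _ x.2))
  obtain ⟨e2⟩ := K66.RefZ.nonempty_refPowZ_congr
    ((FormalB.PullCoh.restrictPullbackIso p U).symm.app ω ≪≫ e.symm) m
  obtain ⟨e3⟩ := K66.RefZ.nonempty_refPowZ_restrict (p ⁻¹ᵁ U).ι ω' m
  exact ⟨e1 ≪≫ e2 ≪≫ e3.symm⟩

end BC

section BCφ

variable (hG : ∀ y : Y, y ∉ RelCanon.gorLocus (Y ↘ Spec (CommRingCat.of A)) →
      (2 : WithBot ℕ∞) ≤ ringKrullDim (((Y ↘ Spec (CommRingCat.of A)).fiber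
        ((Y ↘ Spec (CommRingCat.of A)) y)).presheaf.stalk ((Y ↘ Spec (CommRingCat.of A)).asFiber y)))
  (B : Type u) [CommRing B] [IsNoetherianRing B] (φ : A →+* B)
  (Y' : Scheme.{u}) [Y'.Over (Spec (CommRingCat.of B))] (p : Y' ⟶ Y)
  (hp : IsPullback p (Y' ↘ Spec (CommRingCat.of B)) (Y ↘ Spec (CommRingCat.of A))
    (Spec.map (CommRingCat.ofHom φ)))
  (ω' : Y'.Modules) (hω' : RelCanon.IsDualizingSheaf B Y' d ω')

include hS hd hω hG hp hω'

/-- `(p^* ω^{[m]})^** ≅ ω'^{[m]}`. -/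
theorem nonempty_ddual_pullback (m : ℤ) :
    Nonempty (RefHull.ddual ((Scheme.Modules.pullback p).obj (RelCanon.refPowZ ω m)) ≅
      RelCanon.refPowZ ω' m) := by
  have hNA : IsNoetherianRing (CommRingCat.of A) := inferInstanceAs (IsNoetherianRing A)
  have hNB : IsNoetherianRing (CommRingCat.of B) := inferInstanceAs (IsNoetherianRing B)
  have hpr : IsProper (Y' ↘ Spec (CommRingCat.of B)) := MorphismProperty.of_isPullback hp inferInstance
  have hlN' : IsLocallyNoetherian Y' :=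
    LocallyOfFiniteType.isLocallyNoetherian (Y' ↘ Spec (CommRingCat.of B))
  have hflat := hS.1
  have hft := hS.2.1
  let U : Y.Opens := gorOpen (Y ↘ Spec (CommRingCat.of A))
  have hcod : ∀ y' : Y', y' ∉ p ⁻¹ᵁ U → (2 : WithBot ℕ∞) ≤ ringKrullDim
      (((Y' ↘ Spec (CommRingCat.of B)).fiber ((Y' ↘ Spec (CommRingCat.of B)) y')).presheaf.stalk
        ((Y' ↘ Spec (CommRingCat.of B)).asFiber y')) := fun y' hy' =>
    (hG (p y') hy').trans (K970.BCHyp.ringKrullDim_fibre_le_cat _ hp y')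
  have hu := K967.FibDepth.isIso_unit_structure (Y' ↘ Spec (CommRingCat.of B))
    (K970.BCHyp.isSkMor_cat _ hp 2 hS) (p ⁻¹ᵁ U) hcod
  obtain ⟨e⟩ := nonempty_restrict_iso A Y d hd ω hω B Y' p hp ω' hω' U (fun y hy => hy) m
  have hinv : PicF.IsInvertible
      (((Scheme.Modules.pullback p).obj (RelCanon.refPowZ ω m)).restrict (p ⁻¹ᵁ U).ι) :=
    (InvAt.isInvertible_restrict_iff _ _).mpr fun x => InvAt.invertibleAt_pullback p _ _
      (RefPow.invertibleAt_refPowZ _ (K967.OmegaBasic.invertibleAt A Y d hd ω hω _ x.2) m)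
  obtain ⟨e1⟩ := K66.RefZ.nonempty_ddual_iso hinv
  exact K967.BCOmega.nonempty_iso_of_unit (p ⁻¹ᵁ U)
    (K967.HomUnit.isIso_unit_ddual _ _ hu) (K967.HomUnit.isIso_unit_refPowZ _ _ hu m)
    (K476.HomSh5.restrictDDual (p ⁻¹ᵁ U).ι _ ≪≫ e1 ≪≫ e)

/-- `p^* ω^{[m]} ≅ ω'^{[m]}` if `ω^{[m]}` is relatively `S_2`. -/
theorem nonempty_pullback_of_relSk (m : ℤ)
    (h2 : RelCanon.RelSk (Y ↘ Spec (CommRingCat.of A)) 2 (RelCanon.refPowZ ω m)) :
    Nonempty ((Scheme.Modules.pullback p).obj (RelCanon.refPowZ ω m) ≅ RelCanon.refPowZ ω' m) := by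
  have hNA : IsNoetherianRing (CommRingCat.of A) := inferInstanceAs (IsNoetherianRing A)
  have hNB : IsNoetherianRing (CommRingCat.of B) := inferInstanceAs (IsNoetherianRing B)
  have hpr : IsProper (Y' ↘ Spec (CommRingCat.of B)) := MorphismProperty.of_isPullback hp inferInstance
  have hlN : IsLocallyNoetherian Y :=
    LocallyOfFiniteType.isLocallyNoetherian (Y ↘ Spec (CommRingCat.of A))
  have hlN' : IsLocallyNoetherian Y' :=
    LocallyOfFiniteType.isLocallyNoetherian (Y' ↘ Spec (CommRingCat.of B))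
  have hflat := hS.1
  have hft := hS.2.1
  let U : Y.Opens := gorOpen (Y ↘ Spec (CommRingCat.of A))
  have hcod : ∀ y' : Y', y' ∉ p ⁻¹ᵁ U → (2 : WithBot ℕ∞) ≤ ringKrullDim
      (((Y' ↘ Spec (CommRingCat.of B)).fiber ((Y' ↘ Spec (CommRingCat.of B)) y')).presheaf.stalk
        ((Y' ↘ Spec (CommRingCat.of B)).asFiber y')) := fun y' hy' =>
    (hG (p y') hy').trans (K970.BCHyp.ringKrullDim_fibre_le_cat _ hp y')
  have hu := K967.FibDepth.isIso_unit_structure (Y' ↘ Spec (CommRingCat.of B))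
    (K970.BCHyp.isSkMor_cat _ hp 2 hS) (p ⁻¹ᵁ U) hcod
  obtain ⟨e⟩ := nonempty_restrict_iso A Y d hd ω hω B Y' p hp ω' hω' U (fun y hy => hy) m
  have hc : Coh.IsCoh (RelCanon.refPowZ ω m) :=
    RefPow.isCoh_refPowZ (K967.OmegaBasic.isCoh A Y d ω hω (K967.ReflUnit.dim_fiber_le hd)) m
  have hc' : Coh.IsCoh ((Scheme.Modules.pullback p).obj (RelCanon.refPowZ ω m)) :=
    FormalB.PullCoh.isCoh_pullback p hc
  have hnt : ∀ y' ∈ p ⁻¹ᵁ U, Nontrivial
      (((Scheme.Modules.pullback p).obj (RelCanon.refPowZ ω m)).presheaf.stalk y') := by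
    intro y' hy'
    obtain ⟨e⟩ := InvAt.nonempty_stalk_equiv y' (InvAt.invertibleAt_pullback p _ y'
      (RefPow.invertibleAt_refPowZ _ (K967.OmegaBasic.invertibleAt A Y d hd ω hω _ hy') m))
    exact e.symm.toEquiv.nontrivial
  have h3 := K967.BCOmega.isIso_unit_relS2 (Y' ↘ Spec (CommRingCat.of B)) hc'
    (FullSupp.nontrivial_stalk (Y' ↘ Spec (CommRingCat.of B)) hc'.1 (p ⁻¹ᵁ U) hnt
      (fun y' hy' => le_trans (by decide) (hcod y' hy')))
    (fun y' => K970.BCHyp.relSkAt_pullback_cat _ hp _ hc 2 y' (h2 (p y'))) (p ⁻¹ᵁ U) hcod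
  exact K967.BCOmega.nonempty_iso_of_unit (p ⁻¹ᵁ U) h3
    (K967.HomUnit.isIso_unit_refPowZ _ _ hu m) e

end BCφ

end Main

end K970.RefBC
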