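import Groth.Agent.SDiv.K476.HomSh6
import Groth.Agent.SDiv.K476.HomSh5
import Groth.Agent.Ega1.TildePullback
import Groth.Agent.S2310
import Groth.Agent.Ega1.ExtendAff2

/-!
# Duals of sheaves associated to modules

* `exists_tilde_iso_of_isCoh`: a coherent module on `Spec C` is `M~` with `M` finite;
* `nonempty_dual_tilde_iso`: `(M~)^∨ ≅ (M^∨)~` for `C` Noetherian and `M` finite;
* `nonempty_ddual_tilde_iso`: the same for double duals.
-/

set_option autoImplicit false
set_option linter.style.haveILetI false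
universe u

open AlgebraicGeometry CategoryTheory Limits TopologicalSpace RefHull

namespace K970.TildeDual

open Groth.Agent

theorem finite_dual (R M : Type u) [CommRing R] [IsNoetherianRing R] [AddCommGroup M] [Module R M]
    [Module.Finite R M] : Module.Finite R (Module.Dual R M) := by
  have : IsNoetherian R (M →ₗ[R] R) := inferInstance
  exact inferInstanceAs (Module.Finite R (M →ₗ[R] R))

section R

variable {R : CommRingCat.{u}}

/-- A coherent module on an affine scheme is associated to a finite module. -/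
theorem exists_tilde_iso_of_isCoh (F : (Spec R).Modules) (hF : Coh.IsCoh F) :
    ∃ M : ModuleCat.{u} R, Module.Finite R M ∧ Nonempty (F ≅ tilde M) := by
  obtain ⟨M, ⟨e⟩⟩ := S2310.exists_tilde_iso F hF.1
  exact ⟨M, Ega1.FTAffine.finite_of_isFiniteType M e hF.2, ⟨e⟩⟩

/-- Sections of `M~` over the whole space. -/
noncomputable def topEquiv (M : ModuleCat.{u} R) : M ≃ₗ[R] Γ(tilde M, ⊤) :=
  (tilde.isoTop M).toLinearEquiv

theorem algebraMap_top_surjective :
    Function.Surjective (algebraMap R Γ(Spec R, ⊤)) := by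
  intro x
  refine ⟨(Scheme.ΓSpecIso R).hom x, ?_⟩
  exact (Scheme.ΓSpecIso R).hom_inv_id_apply x

/-- Global sections of the dual of a quasi-coherent module. -/
noncomputable def dualSecEquiv (F : (Spec R).Modules) (hF : Coh.IsQCoh F) :
    Γ(dual F, ⊤) ≃ₗ[R] (Γ(F, ⊤) →ₗ[R] Γ(Coh.structureModule (Spec R), ⊤)) :=
  ((K476.HomSh2.affEquivSelf (F := F) (G := Coh.structureModule (Spec R))
    (isAffineOpen_top (Spec R)) hF).restrictScalars R).trans
    (LinearMap.extendScalarsOfSurjectiveEquiv algebraMap_top_surjective).symm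

/-- Global sections of the dual of `M~`. -/
noncomputable def dualTildeSecEquiv (M : ModuleCat.{u} R) :
    Γ(dual (tilde M), ⊤) ≃ₗ[R] Module.Dual R M :=
  (dualSecEquiv (tilde M) inferInstance).trans
    (LinearEquiv.arrowCongr (topEquiv M).symm (topEquiv (ModuleCat.of R R)).symm)

theorem nonempty_dual_tilde_iso [IsNoetherianRing R] (M : ModuleCat.{u} R) [Module.Finite R M] :
    Nonempty (dual (tilde M) ≅ tilde (ModuleCat.of R (Module.Dual R M))) := by
  have h1 : Coh.IsCoh (tilde M) := Ega1.ExtendAff2.isCoh_tilde M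
  have h2 : Coh.IsCoh (dual (tilde M)) := K476.HomSh4.isCoh_dual h1
  have : (dual (tilde M)).IsQuasicoherent := h2.1
  refine ⟨(asIso (dual (tilde M)).fromTildeΓ).symm ≪≫ (tilde.functor R).mapIso ?_⟩
  exact LinearEquiv.toModuleIso (X₁ := (modulesSpecToSheaf.obj (dual (tilde M))).presheaf.obj (.op ⊤))
    (dualTildeSecEquiv M)

theorem nonempty_ddual_tilde_iso [IsNoetherianRing R] (M : ModuleCat.{u} R) [Module.Finite R M] :
    Nonempty (ddual (tilde M) ≅ tilde (ModuleCat.of R (Module.Dual R (Module.Dual R M)))) := by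
  obtain ⟨e⟩ := nonempty_dual_tilde_iso M
  haveI : Module.Finite R (ModuleCat.of R (Module.Dual R M)) := finite_dual R M
  obtain ⟨e'⟩ := nonempty_dual_tilde_iso (ModuleCat.of R (Module.Dual R M))
  exact ⟨K476.HomSh1.dualIso e ≪≫ e'⟩

end R

end K970.TildeDual
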